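import Mathlib

/-!
# The finitely many orders and the congruence that excludes them
-/

set_option autoImplicit false

namespace CfsgLib.NineOne

/-- The orders `9·2^a·q^b` that survive the counting bound, as triples `(a, q, b)`. -/
def candidates : List (ℕ × ℕ × ℕ) :=
  [(3, 7, 3), (3, 17, 2), (3, 19, 1), (3, 19, 2), (4, 5, 1), (5, 5, 2), (5, 7, 1), (5, 13, 2),
    (6, 5, 3), (6, 17, 1), (7, 7, 2), (7, 11, 2), (7, 13, 1), (8, 11, 1), (9, 19, 1),
    (11, 13, 2), (12, 5, 3), (13, 11, 2)]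

/-- The counting bound, in the form in which it is used. -/
def Bounded (a q b : ℕ) : Prop :=
  if a % 2 = 0 then 2 ^ a * q ^ b ≤ 72 * (36 + 6 * 2 ^ a)
  else 2 ^ a * q ^ b ≤ 72 * (36 + 3 * 2 ^ (a - 1)) ∨
    ((q ∣ 3 * 2 ^ a - 1 ∨ q ∣ 3 * 2 ^ (a - 1) - 1) ∧
      2 ^ a * q ^ b ≤ 72 * (36 + 3 * 2 ^ (a - 1) + 6 * q ^ b)) ∨
    (11 ≤ a ∧ 512 * (2 ^ a * q ^ b) ≤ 72 * (512 * (36 + 3 * 2 ^ (a - 1)) + 3 * (2 ^ a * q ^ b)))

instance (a q b : ℕ) : Decidable (Bounded a q b) := by unfold Bounded; infer_instance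

/-- Boolean form of the hypotheses. -/
def check (a q b : ℕ) : Bool :=
  decide (a < 3) || decide (q < 5) || decide (b = 0) || q % 2 == 0 || q % 3 == 0 ||
    decide (q = 25) || decide (q = 35) || decide (q = 49) ||
    decide ((2 ^ a * q ^ b) % 9 ≠ 8) || decide (81 * q ^ b < 2 ^ a) || decide (81 * 2 ^ a < q ^ b) ||
    decide (b = 1 ∧ 19 < q) || decide (¬ Bounded a q b) || decide ((a, q, b) ∈ candidates)

theorem check_small : ∀ a < 16, ∀ q < 25, ∀ b < 4, check a q b = true := by decide +kernel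

theorem check_pure : ∀ a ∈ [3, 5, 7, 9], ∀ q ∈ [5, 11, 13, 19, 23, 47, 59, 191, 307, 383],
    ∀ b < 7, check a q b = true := by decide +kernel

theorem of_check {a q b : ℕ} (ha : 3 ≤ a) (hq : q.Prime) (hq5 : 5 ≤ q) (hb : b ≠ 0)
    (h9 : (2 ^ a * q ^ b) % 9 = 8) (h1 : 2 ^ a ≤ 81 * q ^ b) (h2 : q ^ b ≤ 81 * 2 ^ a)
    (h19 : b = 1 → q ≤ 19) (hB : Bounded a q b) (h : check a q b = true) :
    (a, q, b) ∈ candidates := by
  have e2 : q % 2 ≠ 0 := fun e => by
    rcases hq.eq_one_or_self_of_dvd 2 (Nat.dvd_of_mod_eq_zero e) with h | h <;> omega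
  have e3 : q % 3 ≠ 0 := fun e => by
    rcases hq.eq_one_or_self_of_dvd 3 (Nat.dvd_of_mod_eq_zero e) with h | h <;> omega
  have e25 : q ≠ 25 := fun e => by rw [e] at hq; norm_num at hq
  have e35 : q ≠ 35 := fun e => by rw [e] at hq; norm_num at hq
  have e49 : q ≠ 49 := fun e => by rw [e] at hq; norm_num at hq
  simp only [check, Bool.or_eq_true, decide_eq_true_eq, beq_iff_eq] at h
  rcases h with (((((((((((((h | h) | h) | h) | h) | h) | h) | h) | h) | h) | h) | h) | h) | h) <;>
    first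
      | exact h
      | omega
      | exact absurd h e25
      | exact absurd hB h

/-- **The candidates.** -/
theorem mem_candidates {a q b : ℕ} (ha : 3 ≤ a) (hq : q.Prime) (hq5 : 5 ≤ q) (hb : b ≠ 0)
    (h9 : (2 ^ a * q ^ b) % 9 = 8) (h1 : 2 ^ a ≤ 81 * q ^ b) (h2 : q ^ b ≤ 81 * 2 ^ a)
    (h19 : b = 1 → q ≤ 19) (hB : Bounded a q b) : (a, q, b) ∈ candidates := by
  refine of_check ha hq hq5 hb h9 h1 h2 h19 hB ?_
  have hT8 : 8 ≤ 2 ^ a := le_trans (by norm_num : 8 ≤ 2 ^ 3) (Nat.pow_le_pow_right (by norm_num) ha)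
  have hT : 2 ^ a = 2 * 2 ^ (a - 1) := by rw [← pow_succ']; congr 1; omega
  set T := 2 ^ (a - 1) with hTdef
  -- a small `q ^ b` suffices
  have small : q ^ b ≤ 610 → check a q b = true := by
    intro hQ
    have hq25 : q < 25 := by
      rcases Nat.lt_or_ge b 2 with h | h
      · have := h19 (by omega); omega
      · by_contra hc
        have : 25 ^ 2 ≤ q ^ b :=
          (Nat.pow_le_pow_left (not_lt.1 hc) 2).trans (Nat.pow_le_pow_right (by omega) h)
        omega
    have hb4 : b < 4 := by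
      by_contra hc
      have : 5 ^ 4 ≤ q ^ b :=
        (Nat.pow_le_pow_left hq5 4).trans (Nat.pow_le_pow_right (by omega) (not_lt.1 hc))
      omega
    have ha16 : a < 16 := by
      by_contra hc
      have : 2 ^ 16 ≤ 2 ^ a := Nat.pow_le_pow_right (by norm_num) (not_lt.1 hc)
      omega
    exact check_small a ha16 q hq25 b hb4
  unfold Bounded at hB
  split_ifs at hB with hev
  · refine small ?_
    have hT16 : 16 ≤ 2 ^ a := le_trans (by norm_num : 16 ≤ 2 ^ 4)
      (Nat.pow_le_pow_right (by norm_num) (by omega))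
    nlinarith
  have hT11 : 11 ≤ a → 1024 ≤ T := fun h =>
    le_trans (by norm_num : 1024 ≤ 2 ^ 10) (Nat.pow_le_pow_right (by norm_num) (by omega))
  rcases hB with hB | ⟨hd, hB⟩ | ⟨h11, hB⟩
  · refine small ?_
    rw [← hTdef] at hB
    rw [hT] at hB hT8
    nlinarith
  · rw [← hTdef] at hB
    rcases Nat.lt_or_ge a 11 with h | h
    · have hb7 : b < 7 := by
        by_contra hc
        have : 5 ^ 7 ≤ q ^ b :=
          (Nat.pow_le_pow_left hq5 7).trans (Nat.pow_le_pow_right (by omega) (not_lt.1 hc))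
        have : 2 ^ a ≤ 2 ^ 9 := Nat.pow_le_pow_right (by norm_num) (by omega)
        omega
      have hdiv : ∀ p r : ℕ, p.Prime → r.Prime → q ∣ p * r → q = p ∨ q = r := fun p r hp hr h =>
        ((hq.dvd_mul).1 h).imp (Nat.prime_dvd_prime_iff_eq hq hp).1 (Nat.prime_dvd_prime_iff_eq hq hr).1
      have hone : ∀ p : ℕ, p.Prime → q ∣ p → q = p := fun p hp h =>
        (Nat.prime_dvd_prime_iff_eq hq hp).1 h
      have hmem : q ∈ [5, 11, 13, 19, 23, 47, 59, 191, 307, 383] := by
        have hcase : a = 3 ∨ a = 5 ∨ a = 7 ∨ a = 9 := by omega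
        rcases hcase with rfl | rfl | rfl | rfl <;> norm_num at hd <;> rcases hd with hd | hd
        · rw [hone 23 (by norm_num) hd]; norm_num
        · rw [hone 11 (by norm_num) hd]; norm_num
        · rcases hdiv 5 19 (by norm_num) (by norm_num) (by norm_num; exact hd) with e | e <;>
            rw [e] <;> norm_num
        · rw [hone 47 (by norm_num) hd]; norm_num
        · rw [hone 383 (by norm_num) hd]; norm_num
        · rw [hone 191 (by norm_num) hd]; norm_num
        · rcases hdiv 5 307 (by norm_num) (by norm_num) (by norm_num; exact hd) with e | e <;>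
            rw [e] <;> norm_num
        · rcases hdiv 13 59 (by norm_num) (by norm_num) (by norm_num; exact hd) with e | e <;>
            rw [e] <;> norm_num
      exact check_pure a (by
        have : a = 3 ∨ a = 5 ∨ a = 7 ∨ a = 9 := by omega
        rcases this with rfl | rfl | rfl | rfl <;> simp) q hmem b hb7
    · refine small ?_
      have := hT11 h
      rw [hT] at hB
      nlinarith
  · refine small ?_
    have := hT11 h11
    rw [← hTdef] at hB
    rw [hT] at hB
    nlinarith

/-- Exhaustive search over multisets of items of total weight at most eight. -/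
def avoid (good : ℕ → ℤ → ℤ → Bool) : List (ℕ × ℤ × ℤ) → ℕ → ℤ → ℤ → Bool
  | [], w, r, s => good w r s
  | it :: l, w, r, s => (List.range 9).all fun k =>
      if w + k * it.1 ≤ 8 then avoid good l (w + k * it.1) (r + k * it.2.1) (s + k * it.2.2) else true

theorem avoid_sound {ι : Type*} [DecidableEq ι] {good : ℕ → ℤ → ℤ → Bool} (item : ι → ℕ × ℤ × ℤ) :
    ∀ (l : List (ℕ × ℤ × ℤ)) (w : ℕ) (r s : ℤ) (A : Finset ι), (∀ i ∈ A, item i ∈ l) →
      (∀ i ∈ A, 0 < (item i).1) → w + ∑ i ∈ A, (item i).1 ≤ 8 → avoid good l w r s = true →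
      good (w + ∑ i ∈ A, (item i).1) (r + ∑ i ∈ A, (item i).2.1) (s + ∑ i ∈ A, (item i).2.2) = true
  | [], w, r, s, A, hl, _, _, h => by
      rcases A.eq_empty_or_nonempty with rfl | ⟨i, hi⟩
      · simpa [avoid] using h
      · exact absurd (hl i hi) (List.not_mem_nil)
  | it :: l, w, r, s, A, hl, hpos, hw, h => by
      classical
      set B := A.filter fun i => item i = it with hB
      set C := A.filter fun i => item i ≠ it with hC
      have hsum : ∀ {M : Type} [AddCommMonoid M] (φ : ℕ × ℤ × ℤ → M),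
          ∑ i ∈ A, φ (item i) = B.card • φ it + ∑ i ∈ C, φ (item i) := by
        intro M _ φ
        rw [← Finset.sum_filter_add_sum_filter_not A (fun i => item i = it) fun i => φ (item i)]
        congr 1
        exact (Finset.sum_congr rfl fun i hi => by rw [(Finset.mem_filter.1 hi).2]).trans
          (Finset.sum_const _)
      have e1 := hsum fun z => z.1
      have e2 := hsum fun z => z.2.1
      have e3 := hsum fun z => z.2.2
      rw [smul_eq_mul] at e1
      rw [nsmul_eq_mul] at e2 e3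
      rw [e1, e2, e3, ← add_assoc, ← add_assoc, ← add_assoc]
      rw [e1] at hw
      have hk : B.card < 9 := by
        by_contra hc
        obtain ⟨i, hi⟩ := Finset.card_pos.1 (show 0 < B.card by omega)
        have := hpos i (Finset.mem_filter.1 hi).1
        rw [(Finset.mem_filter.1 hi).2] at this
        have h9 : 9 * 1 ≤ B.card * it.1 := Nat.mul_le_mul (by omega) this
        omega
      simp only [avoid, List.all_eq_true, List.mem_range] at h
      have h' := h _ hk
      rw [if_pos (by omega)] at h'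
      exact avoid_sound item l _ _ _ C
        (fun i hi => (List.mem_cons.1 (hl i (Finset.mem_filter.1 hi).1)).resolve_left
          (Finset.mem_filter.1 hi).2)
        (fun i hi => hpos i (Finset.mem_filter.1 hi).1) (by omega) h'

/-- The possible pairs of degree and value in the principal 2-block, weighted by the square of the
value, with a scaled contribution to the pair count. -/
def items (a q b : ℕ) : List (ℕ × ℤ × ℤ) :=
  (List.range a).flatMap fun i => (List.range b).flatMap fun j =>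
    ([1, -1, 2, -2] : List ℤ).filterMap fun f =>
      let d : ℤ := ((2 ^ i * q ^ (j + 1) : ℕ) : ℤ)
      if (d - f) % 9 = 0 ∧ 0 ≤ d + 8 * f ∧ d * d < ((9 * 2 ^ a * q ^ b : ℕ) : ℤ) then
        some ((f * f).toNat, d * f, 8000 * (f * f * f) / d)
      else none

theorem mem_items {a q b i j : ℕ} {f : ℤ} (hi : i < a) (hj : j < b)
    (hf : f = 1 ∨ f = -1 ∨ f = 2 ∨ f = -2)
    (h9 : (((2 ^ i * q ^ (j + 1) : ℕ) : ℤ) - f) % 9 = 0)
    (h8 : 0 ≤ ((2 ^ i * q ^ (j + 1) : ℕ) : ℤ) + 8 * f)
    (hsq : ((2 ^ i * q ^ (j + 1) : ℕ) : ℤ) * ((2 ^ i * q ^ (j + 1) : ℕ) : ℤ) <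
      ((9 * 2 ^ a * q ^ b : ℕ) : ℤ)) :
    ((f * f).toNat, ((2 ^ i * q ^ (j + 1) : ℕ) : ℤ) * f,
      8000 * (f * f * f) / ((2 ^ i * q ^ (j + 1) : ℕ) : ℤ)) ∈ items a q b := by
  simp only [items, List.mem_flatMap, List.mem_filterMap, List.mem_range]
  exact ⟨i, hi, j, hj, f, by rcases hf with rfl | rfl | rfl | rfl <;> simp, by
    rw [if_pos ⟨h9, h8, hsq⟩]⟩

/-- The sum `1 + Σ f·d` over the block is not divisible by `2^a`, except for `(6, 5, 3)`, where it
forces many pairs. -/
def good (a q b w : ℕ) (r s : ℤ) : Bool :=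
  decide (r % ((2 ^ a : ℕ) : ℤ) ≠ 0) ||
    (decide ((a, q, b) = (6, 5, 3)) && decide (3780 < 8000 + s - 1000 * (8 - (w : ℤ))))

/-- The congruence kills every candidate with `a ≠ 3` and the seventh. -/
theorem avoid_all : ∀ t ∈ candidates, (t.1 = 3 ∧ t.2.1 ≠ 7) ∨
    avoid (good t.1 t.2.1 t.2.2) (items t.1 t.2.1 t.2.2) 0 1 0 = true := by
  decide +kernel

end CfsgLib.NineOne
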