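import Cfsg.Agent.NineOne.Count

/-!
# The number of pairs of elements of order three with a given product
-/

set_option autoImplicit false
set_option linter.unusedSectionVars false
set_option linter.style.haveILetI false

namespace CfsgLib.NineOne

open Subgroup CfsgLib.SelfThree CfsgLib.NilpotentPart

universe u

variable {G : Type u} [Group G] [Finite G] {q a b : ℕ} {R : Subgroup G}

/-- The possible bounds for the number of pairs. -/
def PairsBounded (a q b P : ℕ) : Prop :=
  if a % 2 = 0 then P ≤ 36 + 6 * 2 ^ a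
  else P ≤ 36 + 3 * 2 ^ (a - 1) ∨
    ((q ∣ 3 * 2 ^ a - 1 ∨ q ∣ 3 * 2 ^ (a - 1) - 1) ∧ P ≤ 36 + 3 * 2 ^ (a - 1) + 6 * q ^ b) ∨
    (11 ≤ a ∧ 512 * P ≤ 512 * (36 + 3 * 2 ^ (a - 1)) + 3 * (2 ^ a * q ^ b))

theorem two_pow_mod_three (n : ℕ) : 2 ^ n % 3 = if n % 2 = 0 then 1 else 2 := by
  induction n with
  | zero => simp
  | succ n ih => rw [pow_succ, Nat.mul_mod, ih]; split_ifs <;> omega

theorem index_small : ∀ e < 8, e % 2 = 0 → e ≠ 0 →
    (3 * 2 ^ e - 1 ∈ [11, 47, 191]) := by decide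

theorem factorial_sq : ¬ 11 ^ 2 ∣ Nat.factorial 12 ∧ ¬ 47 ^ 2 ∣ Nat.factorial 48 ∧
    ¬ 191 ^ 2 ∣ Nat.factorial 192 := by decide +kernel

namespace Hyp

variable (D : Hyp G q a b R)
include D

theorem fact_two : (Nat.card G).factorization 2 = a := by
  rw [D.card, Nat.factorization_mul (by positivity) (pow_ne_zero _ D.prime.ne_zero),
    Nat.factorization_mul (by norm_num) (by positivity), Finsupp.add_apply, Finsupp.add_apply,
    Nat.prime_two.factorization_pow, Finsupp.single_eq_same,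
    Nat.factorization_eq_zero_of_not_dvd (by norm_num : ¬ 2 ∣ 9),
    Nat.factorization_eq_zero_of_not_dvd (fun h => D.q2
      ((Nat.prime_dvd_prime_iff_eq Nat.prime_two D.prime).1 (Nat.prime_two.dvd_of_dvd_pow h)).symm)]
  omega

theorem fact_q : (Nat.card G).factorization q = b := by
  rw [D.card, Nat.factorization_mul (by positivity) (pow_ne_zero _ D.prime.ne_zero),
    Nat.factorization_mul (by norm_num) (by positivity), Finsupp.add_apply, Finsupp.add_apply,
    D.prime.factorization_pow, Finsupp.single_eq_same,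
    Nat.factorization_eq_zero_of_not_dvd (n := 9) (fun h => D.q3
      ((Nat.prime_dvd_prime_iff_eq D.prime Nat.prime_three).1
        (D.prime.dvd_of_dvd_pow (show q ∣ 3 ^ 2 from h)))),
    Nat.factorization_eq_zero_of_not_dvd (fun h => D.q2
      ((Nat.prime_dvd_prime_iff_eq D.prime Nat.prime_two).1 (D.prime.dvd_of_dvd_pow h)))]
  omega

theorem card_part_mod {F : Subgroup G} {x : G} (hF : IsMax x F) (hx : orderOf x = 3) (p : ℕ)
    [Fact p.Prime] : Nat.card (part F p) % 3 = 1 := by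
  have h' := D.sc_normalizer hF.inv hF.ne_bot hx
  have hle : part F p ≤ normalizer (F : Set G) := (part_le F p).trans le_normalizer
  have := h'.card_mod_three ((hF.inv.part p).subgroupOf hle hF.inv.2)
  rwa [Nat.card_congr (subgroupOfEquivOfLe hle).toEquiv] at this

/-- A maximal invariant subgroup without `q` is a 2-group. -/
theorem isTwo_of_not_dvd {F : Subgroup G} {x : G} (hF : IsMax x F) (hq : ¬ q ∣ Nat.card F) :
    IsPGroup 2 F := by
  have h1 := card_subgroup_dvd_card F
  rw [D.card] at h1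
  have h9 : Nat.Coprime (Nat.card F) 9 :=
    Nat.Coprime.pow_right 2 (Nat.prime_three.coprime_iff_not_dvd.2 hF.inv.1).symm
  have hqb : Nat.Coprime (Nat.card F) (q ^ b) :=
    Nat.Coprime.pow_right b (D.prime.coprime_iff_not_dvd.2 hq).symm
  obtain ⟨i, -, hi⟩ := (Nat.dvd_prime_pow Nat.prime_two).1
    (h9.dvd_of_dvd_mul_left (hqb.dvd_of_dvd_mul_right h1))
  exact IsPGroup.of_card hi

/-- The shapes of a maximal invariant subgroup of order divisible by `q`. -/
theorem q_shape {F : Subgroup G} {x : G} (hF : IsMax x F) (hx : orderOf x = 3)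
    (hb : b ≠ 0) (h9 : (2 ^ a * q ^ b) % 9 = 8) (hq : q ∣ Nat.card F) :
    a % 2 = 1 ∧ (((q ∣ 3 * 2 ^ a - 1 ∨ q ∣ 3 * 2 ^ (a - 1) - 1) ∧ Nat.card F = q ^ b) ∨
      (Nat.card (normalizer (F : Set G)) = 6 * Nat.card F ∧ 11 ≤ a ∧
        512 * Nat.card F ≤ 2 ^ a * q ^ b)) := by
  haveI : Fact q.Prime := ⟨D.prime⟩
  haveI : Fact (Nat.Prime 2) := ⟨Nat.prime_two⟩
  haveI := D.simp
  have hn := D.isNilpotent_max hF hx
  have heq := D.normalizer_part hF hx hq
  have hQ := D.card_part_full hF hx hq hn (Or.inl D.q2) heq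
  rw [D.fact_q] at hQ
  have hQ1 := D.card_part_mod hF hx q
  rw [hQ] at hQ1
  have hodd : a % 2 = 1 := by
    by_contra he
    have h2 := two_pow_mod_three a
    rw [if_pos (by omega)] at h2
    have h3 : (2 ^ a * q ^ b) % 3 = 8 % 3 := by omega
    rw [Nat.mul_mod, h2, hQ1] at h3
    omega
  refine ⟨hodd, ?_⟩
  -- the two parts
  have hc2 := card_part (p := 2) hn
  have hcq := card_part (p := q) hn
  rw [hQ] at hcq
  obtain ⟨c, hca, hc⟩ : ∃ c, c ≤ a ∧ Nat.card F = 2 ^ c * q ^ b := by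
    have h1 := card_subgroup_dvd_card F
    rw [D.card] at h1
    have hd : Nat.card F ∣ 2 ^ a * q ^ b :=
      (Nat.Coprime.pow_right 2 (Nat.prime_three.coprime_iff_not_dvd.2 hF.inv.1).symm :
        Nat.Coprime (Nat.card F) 9).dvd_of_dvd_mul_left (by rwa [← mul_assoc])
    have hqd : q ^ b ∣ Nat.card F := hQ ▸ card_dvd_of_le (part_le F q)
    obtain ⟨d, hd'⟩ := hqd
    rw [hd', mul_comm (q ^ b), Nat.mul_dvd_mul_iff_right (pow_pos D.prime.pos b)] at hd
    obtain ⟨c, hc, rfl⟩ := (Nat.dvd_prime_pow Nat.prime_two).1 hd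
    exact ⟨c, hc, by rw [hd', mul_comm]⟩
  have hceven : c % 2 = 0 := by
    have h1 := D.card_part_mod hF hx 2
    rw [hc2, hc, Nat.factorization_mul (by positivity) (pow_ne_zero _ D.prime.ne_zero),
      Finsupp.add_apply, Nat.prime_two.factorization_pow, Finsupp.single_eq_same,
      Nat.factorization_eq_zero_of_not_dvd (fun h => D.q2
        ((Nat.prime_dvd_prime_iff_eq Nat.prime_two D.prime).1
          (Nat.prime_two.dvd_of_dvd_pow h)).symm), add_zero, two_pow_mod_three] at h1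
    split_ifs at h1 with h
    all_goals omega
  -- the number of Sylow `q`-subgroups
  let P : Sylow q G := Sylow.ofCard (part F q) (by rw [hQ, D.fact_q])
  have hmul := (normalizer (F : Set G)).card_mul_index
  have hidx : Nat.card (Sylow q G) = (normalizer (F : Set G)).index := by
    rw [P.card_eq_index_normalizer]
    show (normalizer ((part F q : Subgroup G) : Set G)).index = _
    rw [heq]
  have hmod : (normalizer (F : Set G)).index ≡ 1 [MOD q] := by
    rw [← hidx]; exact card_sylow_modEq_one q G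
  have hdvd : ∀ m, 1 ≤ m → (normalizer (F : Set G)).index = m → q ∣ m - 1 := fun m hm1 hm => by
    rw [hm] at hmod
    exact (Nat.modEq_iff_dvd' hm1).1 hmod.symm
  have hpos : 0 < 2 ^ c * q ^ b := Nat.mul_pos (by positivity) (pow_pos D.prime.pos b)
  have hp2 : ∀ n : ℕ, 1 ≤ 2 ^ n := fun n => Nat.one_le_two_pow
  obtain ⟨e, he⟩ : ∃ e, a = c + e := ⟨a - c, by omega⟩
  rcases (D.max_data hF hx).1 with hk | hk
  · -- no proper 2-part
    have hc0 : c = 0 := by
      by_contra hc0
      have h2 : 2 ∣ Nat.card F := hc ▸ (dvd_pow_self 2 hc0).mul_right _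
      have h1 := D.card_part_full hF hx h2 hn (Or.inr hk) (D.normalizer_part hF hx h2)
      have h3 := D.card_part_mod hF hx 2
      rw [h1, D.fact_two, two_pow_mod_three, if_neg (by omega)] at h3
      omega
    subst hc0
    refine Or.inl ⟨Or.inl (hdvd _ (by have := hp2 a; omega) ?_), by rw [hc]; ring⟩
    rw [hk, hc, D.card] at hmul
    refine Nat.eq_of_mul_eq_mul_left (show 0 < 3 * (2 ^ 0 * q ^ b) by omega) (hmul.trans ?_)
    ring
  · have hca' : c + 1 ≤ a := by omega
    obtain ⟨e, he⟩ : ∃ e, a = c + 1 + e := ⟨a - c - 1, by omega⟩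
    have hin : (normalizer (F : Set G)).index = 3 * 2 ^ e := by
      rw [hk, hc, D.card] at hmul
      refine Nat.eq_of_mul_eq_mul_left (show 0 < 6 * (2 ^ c * q ^ b) by omega) (hmul.trans ?_)
      rw [he, pow_add, pow_add, pow_one]
      ring
    rcases Nat.eq_zero_or_pos c with rfl | hcpos
    · refine Or.inl ⟨Or.inr ?_, by rw [hc]; ring⟩
      rw [show a - 1 = e by omega]
      exact hdvd _ (by have := hp2 e; omega) hin
    refine Or.inr ⟨hk, ?_⟩
    have he8 : 8 ≤ e := by
      by_contra he8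
      have hidx1 : (normalizer (F : Set G)) ≠ ⊤ := fun h => by
        rw [h, index_top] at hin
        have := hp2 e
        omega
      have hfac := CfsgLib.SmallSimple.card_dvd_factorial _ hidx1
      rw [hin] at hfac
      by_cases he0 : e = 0
      · subst he0
        have h6 := Nat.le_of_dvd (by decide) hfac
        have : 9 ≤ Nat.card G := by
          rw [D.card_eq]
          have : 0 < 2 ^ a * q ^ b := Nat.mul_pos (by positivity) (pow_pos D.prime.pos b)
          omega
        simp [Nat.factorial] at h6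
        omega
      have hmem := index_small e (by omega) (by omega) he0
      have hqd := hdvd _ (by have := hp2 e; omega) hin
      simp only [List.mem_cons, List.not_mem_nil, or_false] at hmem
      have hqeq : q = 3 * 2 ^ e - 1 := by
        rcases hmem with h | h | h <;> rw [h] at hqd ⊢ <;>
          exact (Nat.prime_dvd_prime_iff_eq D.prime (by norm_num)).1 hqd
      have hb2 : 2 ≤ b := by
        by_contra hb2
        obtain rfl : b = 1 := by omega
        rw [pow_one] at hQ1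
        omega
      have hq2 : q ^ 2 ∣ Nat.factorial (3 * 2 ^ e) :=
        ((pow_dvd_pow q hb2).trans ⟨9 * 2 ^ a, by rw [D.card]; ring⟩).trans hfac
      obtain ⟨h11, h47, h191⟩ := factorial_sq
      rcases hmem with h | h | h <;> rw [h] at hqeq <;> subst hqeq <;>
        rw [show 3 * 2 ^ e = (3 * 2 ^ e - 1) + 1 by omega, h] at hq2
      exacts [h11 hq2, h47 hq2, h191 hq2]
    refine ⟨by omega, ?_⟩
    rw [hc, he, pow_add, pow_add, pow_one]
    have : 2 ^ 8 ≤ 2 ^ e := Nat.pow_le_pow_right (by norm_num) he8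
    nlinarith [Nat.zero_le (2 ^ c * q ^ b)]

/-- **The bound on the number of pairs.** -/
theorem pairs_bounded {x : G} (hxR : x ∈ R) (hx1 : x ≠ 1) (hb : b ≠ 0)
    (h9 : (2 ^ a * q ^ b) % 9 = 8) : PairsBounded a q b (Nat.card (pairSet x)) := by
  classical
  haveI := Fintype.ofFinite (Subgroup G)
  haveI : Fact q.Prime := ⟨D.prime⟩
  haveI : Fact (Nat.Prime 2) := ⟨Nat.prime_two⟩
  have hx := D.setup.orderOf_eq hxR hx1
  set Mx := (Finset.univ : Finset (Subgroup G)).filter (IsMax x)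
  have hcount := D.card_pairSet_le hxR hx1 Mx fun F hF => Finset.mem_filter.2 ⟨Finset.mem_univ _, hF⟩
  set Q := Mx.filter fun F : Subgroup G => q ∣ Nat.card F
  set W := Mx.filter fun F : Subgroup G => ¬ q ∣ Nat.card F
  set W3 := W.filter fun F : Subgroup G => Nat.card (normalizer (F : Set G)) = 3 * Nat.card F
  set W6 := W.filter fun F : Subgroup G => ¬ Nat.card (normalizer (F : Set G)) = 3 * Nat.card F
  set L := W6.filter fun F : Subgroup G => 4 < Nat.card F
  set S := W6.filter fun F : Subgroup G => ¬ 4 < Nat.card F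
  have hsplit : ∑ F ∈ Mx, (Nat.card F - 1) = ∑ F ∈ Q, (Nat.card F - 1) +
      (∑ F ∈ W3, (Nat.card F - 1) + (∑ F ∈ L, (Nat.card F - 1) + ∑ F ∈ S, (Nat.card F - 1))) := by
    simp only [Q, W, W3, W6, L, S, Finset.sum_filter_add_sum_filter_not]
  have hmax : ∀ F ∈ Mx, IsMax x F := fun F hF => (Finset.mem_filter.1 hF).2
  have hWmax : ∀ F ∈ W, IsMax x F ∧ IsPGroup 2 F ∧ 4 ≤ Nat.card F ∧ 2 ∣ Nat.card F := by
    intro F hF
    obtain ⟨hF', hq⟩ := Finset.mem_filter.1 hF
    have hM := hmax F hF'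
    have h2 := D.isTwo_of_not_dvd hM hq
    have h3 := D.card_part_mod hM hx 2
    have hpF : part F 2 = F :=
      le_antisymm (part_le F 2) (le_part (D.isNilpotent_max hM hx) le_rfl h2)
    rw [hpF] at h3
    obtain ⟨i, hi⟩ := IsPGroup.iff_card.1 h2
    have h1 : Nat.card F ≠ 1 := fun e => hM.ne_bot (eq_bot_of_card_eq _ e)
    refine ⟨hM, h2, by omega, ?_⟩
    rcases Nat.eq_zero_or_pos i with rfl | hi0
    · simp [hi] at h1
    · rw [hi]; exact dvd_pow_self 2 (by omega)
  have hW3 : ∀ F ∈ W3, a % 2 = 0 ∧ Nat.card F = 2 ^ a := by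
    intro F hF
    obtain ⟨hFW, hk⟩ := Finset.mem_filter.1 hF
    obtain ⟨hM, h2, -, hd⟩ := hWmax F hFW
    have h1 := D.card_part_full hM hx hd (D.isNilpotent_max hM hx) (Or.inr hk)
      (D.normalizer_part hM hx hd)
    have h3 := D.card_part_mod hM hx 2
    rw [h1, D.fact_two, two_pow_mod_three] at h3
    rw [le_antisymm (part_le F 2) (le_part (D.isNilpotent_max hM hx) le_rfl h2), D.fact_two] at h1
    split_ifs at h3 with h
    · exact ⟨h, h1⟩
    · omega
  have hL : ∀ F ∈ L, a % 2 = 1 ∧ Nat.card F = 2 ^ (a - 1) := by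
    intro F hF
    obtain ⟨hF6, h4⟩ := Finset.mem_filter.1 hF
    obtain ⟨hFW, hk⟩ := Finset.mem_filter.1 hF6
    obtain ⟨hM, h2, -, -⟩ := hWmax F hFW
    have h6 := (D.max_data hM hx).1.resolve_left hk
    have h1 := D.two_mul_card hM hx h2 h6 h4
    rw [D.fact_two] at h1
    have h3 := D.card_part_mod hM hx 2
    rw [le_antisymm (part_le F 2) (le_part (D.isNilpotent_max hM hx) le_rfl h2)] at h3
    have ha1 : 1 ≤ a := by
      by_contra ha0
      obtain rfl : a = 0 := by omega
      simp at h1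
    have hF' : Nat.card F = 2 ^ (a - 1) := by
      have : 2 ^ a = 2 * 2 ^ (a - 1) := by rw [← pow_succ']; congr 1; omega
      omega
    rw [hF', two_pow_mod_three] at h3
    split_ifs at h3 with h
    · exact ⟨by omega, hF'⟩
    · omega
  have hS4 : ∑ F ∈ S, (Nat.card F - 1) ≤ 27 := by
    have h4 : ∀ F ∈ S, IsMax x F ∧ Nat.card F = 4 ∧
        Nat.card (normalizer (F : Set G)) = 6 * Nat.card F := by
      intro F hF
      obtain ⟨hF6, h4⟩ := Finset.mem_filter.1 hF
      obtain ⟨hFW, hk⟩ := Finset.mem_filter.1 hF6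
      obtain ⟨hM, -, h4', -⟩ := hWmax F hFW
      exact ⟨hM, by omega, (D.max_data hM hx).1.resolve_left hk⟩
    have h9' := D.card_small hx S h4
    calc _ = ∑ F ∈ S, 3 := Finset.sum_congr rfl fun F hF => by rw [(h4 F hF).2.1]
      _ ≤ 27 := by rw [Finset.sum_const, smul_eq_mul]; omega
  have h3sum : ∑ F ∈ W3, (Nat.card F - 1) ≤ 6 * 2 ^ a := D.sum_family hx W3
    (fun F hF => (hWmax F (Finset.mem_filter.1 hF).1).1)
    (fun F hF F' hF' => by
      obtain ⟨hFW, hk⟩ := Finset.mem_filter.1 hF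
      obtain ⟨hFW', hk'⟩ := Finset.mem_filter.1 hF'
      exact D.conj_of_part (hWmax F hFW).1 (hWmax F' hFW').1 hx (hWmax F hFW).2.2.2
        (hWmax F' hFW').2.2.2 (Or.inr hk) (Or.inr hk'))
    (k := 3) (fun F hF => (Finset.mem_filter.1 hF).2) (fun F hF => by rw [(hW3 F hF).2])
    (by norm_num)
  have hLsum : ∑ F ∈ L, (Nat.card F - 1) ≤ 3 * 2 ^ (a - 1) := by
    have h6 : ∀ F ∈ L, IsMax x F ∧ IsPGroup 2 F ∧
        Nat.card (normalizer (F : Set G)) = 6 * Nat.card F ∧ 4 < Nat.card F := by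
      intro F hF
      obtain ⟨hF6, h4⟩ := Finset.mem_filter.1 hF
      obtain ⟨hFW, hk⟩ := Finset.mem_filter.1 hF6
      exact ⟨(hWmax F hFW).1, (hWmax F hFW).2.1,
        (D.max_data (hWmax F hFW).1 hx).1.resolve_left hk, h4⟩
    exact D.sum_family hx L (fun F hF => (h6 F hF).1)
      (fun F hF F' hF' => D.conj_of_large (h6 F hF).1 (h6 F' hF').1 hx (h6 F hF).2.1 (h6 F' hF').2.1
        (h6 F hF).2.2.1 (h6 F' hF').2.2.1 (h6 F hF).2.2.2 (h6 F' hF').2.2.2)
      (k := 6) (fun F hF => (h6 F hF).2.2.1) (fun F hF => by rw [(hL F hF).2]) (by norm_num)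
  unfold PairsBounded
  split_ifs with hev
  · have e1 : L = ∅ := Finset.eq_empty_of_forall_notMem fun F hF => by
      have := (hL F hF).1; omega
    have e2 : Q = ∅ := Finset.eq_empty_of_forall_notMem fun F hF => by
      obtain ⟨hF', hqd⟩ := Finset.mem_filter.1 hF
      have := (D.q_shape (hmax F hF') hx hb h9 hqd).1
      omega
    rw [e1, e2] at hsplit
    simp only [Finset.sum_empty, zero_add] at hsplit
    omega
  have e3 : W3 = ∅ := Finset.eq_empty_of_forall_notMem fun F hF => hev (hW3 F hF).1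
  rw [e3] at hsplit
  simp only [Finset.sum_empty, zero_add] at hsplit
  rcases Q.eq_empty_or_nonempty with e2 | ⟨F₀, hF₀⟩
  · left
    rw [e2] at hsplit
    simp only [Finset.sum_empty, zero_add] at hsplit
    omega
  obtain ⟨hF₀', hq₀⟩ := Finset.mem_filter.1 hF₀
  have hall : ∀ F ∈ Q, ∃ g, F = cj g F₀ := fun F hF =>
    D.conj_of_part (hmax F₀ hF₀') (hmax F (Finset.mem_filter.1 hF).1) hx hq₀
      (Finset.mem_filter.1 hF).2 (Or.inl D.q2) (Or.inl D.q2)
  have hfam : ∑ F ∈ Q, (Nat.card F - 1) ≤ Q.card * Nat.card F₀ := by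
    refine (Finset.sum_le_card_nsmul Q _ (Nat.card F₀) fun F hF => ?_).trans (le_of_eq (smul_eq_mul _ _))
    obtain ⟨g, rfl⟩ := hall F hF
    rw [card_cj]; omega
  have hcardQ := D.card_family_mul (hmax F₀ hF₀') hx Q fun F hF =>
    ⟨hall F hF, (hmax F (Finset.mem_filter.1 hF).1).inv.2⟩
  have hpos : 0 < Nat.card F₀ := Nat.card_pos
  obtain ⟨-, ⟨hd, hc⟩ | ⟨hk, h11, hle⟩⟩ := D.q_shape (hmax F₀ hF₀') hx hb h9 hq₀
  · refine Or.inr (Or.inl ⟨hd, ?_⟩)
    have : Q.card ≤ 6 := by
      rcases (D.max_data (hmax F₀ hF₀') hx).1 with e | e <;> rw [e, ← mul_assoc] at hcardQ <;>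
        have := Nat.le_of_mul_le_mul_right hcardQ hpos <;> omega
    have h6 := Nat.mul_le_mul_right (Nat.card F₀) this
    rw [hc] at h6 hfam
    omega
  · refine Or.inr (Or.inr ⟨h11, ?_⟩)
    rw [hk, ← mul_assoc] at hcardQ
    have : Q.card ≤ 3 := by
      have := Nat.le_of_mul_le_mul_right hcardQ hpos
      omega
    have h3 := Nat.mul_le_mul_right (Nat.card F₀) this
    omega

end Hyp

end CfsgLib.NineOne
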