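import Cfsg.Agent.NineOne.Local
import Cfsg.Agent.ThreeNine.Chars
import Cfsg.Agent.SelfThree.Chars
import Cfsg.Agent.Blocks.TraceFormula
import Cfsg.Agent.Blocks.Principal
import Cfsg.Agent.Blocks.CharExtra
import Cfsg.Agent.Blocks.Congr
import Cfsg.Agent.NineTwo.Parity
import Cfsg.Agent.S0910

/-!
# The characters at an element of order three and the congruence in a principal block
-/

set_option autoImplicit false
set_option linter.unusedSectionVars false
set_option linter.style.haveILetI false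

namespace CfsgLib.NineOne

open Finset Cfsg CfsgLib.Block CfsgLib.Block.Chr CfsgLib.Char
open scoped ComplexConjugate Classical

universe u

variable {G : Type u} [Group G] [Fintype G] [Fintype (IrrCharacter G)] {q a b : ℕ} {R : Subgroup G}

/-- The degree as an integer. -/
noncomputable def deg (χ : IrrCharacter G) : ℤ := (charDegree (χ : G → ℂ) : ℤ)

theorem deg_pos (χ : IrrCharacter G) : 0 < deg χ := by
  rw [deg]
  exact_mod_cast (irr_one χ).2

theorem apply_one_deg (χ : IrrCharacter G) : (χ : G → ℂ) 1 = ((deg χ : ℤ) : ℂ) := by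
  rw [(irr_one χ).1, deg, Int.cast_natCast]

namespace Hyp

variable (D : Hyp G q a b R)
include D

theorem isConj_R {x : G} (hxR : x ∈ R) (hx1 : x ≠ 1) (s : R) (hs : (s : G) ≠ 1) :
    IsConj (s : G) x :=
  D.one s s.2 hs x hxR hx1

/-- The integral value at `x`, its congruence and the multiplicity of the trivial character of
`R`. -/
theorem exists_value {x : G} (hxR : x ∈ R) (hx1 : x ≠ 1) (χ : IrrCharacter G) :
    ∃ f : ℤ, (χ : G → ℂ) x = f ∧ (deg χ - f) % 9 = 0 ∧ 0 ≤ deg χ + 8 * f := by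
  have hx := D.setup.orderOf_eq hxR hx1
  obtain ⟨f, hf, -⟩ := ThreeNine.exists_int_value hx
    (D.one x hxR hx1 x⁻¹ (inv_mem hxR) (fun e => hx1 (inv_eq_one.1 e))) χ.2 (irr_one χ).1
  obtain ⟨m, hm⟩ := IsCharacter.exists_classInner_eq_natCast'
    (IsCharacter.restrict (isCharacter_irr χ) R) (isCharacter_one (G := R))
  rw [classInner_def, D.setup.card] at hm
  simp only [map_one, mul_one] at hm
  rw [← Finset.add_sum_erase univ _ (Finset.mem_univ (1 : R)),
    Finset.sum_congr rfl fun s hs => IsClassFunction.apply_eq_of_isConj (isClassFunction_irr χ)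
      (D.isConj_R hxR hx1 s fun e => Finset.ne_of_mem_erase hs (Subtype.ext e))] at hm
  rw [Finset.sum_const, Finset.card_erase_of_mem (Finset.mem_univ _), Finset.card_univ,
    ← Nat.card_eq_fintype_card, D.setup.card, Subgroup.coe_one, apply_one_deg, hf] at hm
  have h : deg χ + 8 * f = 9 * (m : ℤ) := by
    apply Int.cast_injective (α := ℂ)
    push_cast
    rw [← hm]
    simp only [nsmul_eq_mul]
    push_cast
    ring
  exact ⟨f, hf, by omega, by omega⟩

/-- The value at `x`. -/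
noncomputable def val {x : G} (hxR : x ∈ R) (hx1 : x ≠ 1) (χ : IrrCharacter G) : ℤ :=
  (D.exists_value hxR hx1 χ).choose

section

variable {x : G} (hxR : x ∈ R) (hx1 : x ≠ 1)

theorem apply_x (χ : IrrCharacter G) : (χ : G → ℂ) x = ((D.val hxR hx1 χ : ℤ) : ℂ) :=
  (D.exists_value hxR hx1 χ).choose_spec.1

theorem val_congr (χ : IrrCharacter G) : (deg χ - D.val hxR hx1 χ) % 9 = 0 :=
  (D.exists_value hxR hx1 χ).choose_spec.2.1

theorem val_nonneg (χ : IrrCharacter G) : 0 ≤ deg χ + 8 * D.val hxR hx1 χ :=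
  (D.exists_value hxR hx1 χ).choose_spec.2.2

theorem val_one : D.val hxR hx1 (oneIrr G) = 1 := by
  have h := D.apply_x hxR hx1 (oneIrr G)
  rw [oneIrr_apply] at h
  exact_mod_cast h.symm

theorem deg_one : deg (oneIrr G) = 1 := by
  have h := apply_one_deg (oneIrr G)
  rw [oneIrr_apply] at h
  exact_mod_cast h.symm

theorem val_sq : ∑ χ : IrrCharacter G, D.val hxR hx1 χ * D.val hxR hx1 χ = 9 := by
  have h := column_orth x x
  rw [if_pos (IsConj.refl x), D.setup.card_centralizer hxR hx1] at h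
  apply Int.cast_injective (α := ℂ)
  push_cast
  rw [← show ((9 : ℕ) : ℂ) = 9 by norm_num, ← h]
  exact Finset.sum_congr rfl fun χ _ => by rw [D.apply_x hxR hx1, map_intCast]

theorem val_deg : ∑ χ : IrrCharacter G, D.val hxR hx1 χ * deg χ = 0 := by
  have h := column_orth x (1 : G)
  rw [if_neg (fun h => hx1 (isConj_one_left.1 h))] at h
  apply Int.cast_injective (α := ℂ)
  push_cast
  rw [← h]
  exact Finset.sum_congr rfl fun χ _ => by rw [D.apply_x hxR hx1, apply_one_deg, map_intCast]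

theorem deg_sq : ∑ χ : IrrCharacter G, deg χ * deg χ = 9 * (2 ^ a * q ^ b : ℕ) := by
  have h := sum_degree_sq (G := G)
  rw [← sum_irr_eq (fun χ => χ 1 ^ 2), D.card_eq] at h
  apply Int.cast_injective (α := ℂ)
  push_cast at h ⊢
  rw [← h]
  exact Finset.sum_congr rfl fun χ _ => by rw [apply_one_deg, sq]

/-- The non-principal values are at most two in absolute value. -/
theorem val_cases {χ : IrrCharacter G} (hne : χ ≠ oneIrr G) (h0 : D.val hxR hx1 χ ≠ 0) :
    D.val hxR hx1 χ = 1 ∨ D.val hxR hx1 χ = -1 ∨ D.val hxR hx1 χ = 2 ∨ D.val hxR hx1 χ = -2 := by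
  have h := D.val_sq hxR hx1
  rw [← Finset.add_sum_erase univ _ (Finset.mem_univ (oneIrr G)), D.val_one] at h
  have h1 := Finset.single_le_sum (f := fun ψ => D.val hxR hx1 ψ * D.val hxR hx1 ψ)
    (fun ψ _ => mul_self_nonneg _) (Finset.mem_erase.2 ⟨hne, Finset.mem_univ χ⟩)
  have hlt : D.val hxR hx1 χ < 3 := by nlinarith
  have hgt : -3 < D.val hxR hx1 χ := by nlinarith
  omega

include hxR hx1 in
theorem card_conj_class :
    (Nat.card {y : G // IsConj x y} : ℂ) = ((2 ^ a * q ^ b : ℕ) : ℂ) := by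
  have h := card_conj_class_mul_card_centralizer x
  rw [D.setup.card_centralizer hxR hx1, D.card_eq, mul_comm] at h
  exact_mod_cast Nat.eq_of_mul_eq_mul_left (by norm_num) h

/-- **The pair count.** -/
theorem pairs_eq : (9 * (Nat.card (SelfThree.pairSet x) : ℚ)) =
    (2 ^ a * q ^ b : ℕ) * ∑ χ : IrrCharacter G,
      ((D.val hxR hx1 χ ^ 3 : ℤ) : ℚ) / (deg χ : ℚ) := by
  have hx := D.setup.orderOf_eq hxR hx1
  have hiff : ∀ y : G, IsConj x y ↔ orderOf y = 3 := fun y => ⟨fun h => by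
      obtain ⟨c, rfl⟩ := isConj_iff.1 h
      rw [← hx]; exact orderOf_injective (MulAut.conj c).toMonoidHom (MulAut.conj c).injective x,
    D.isConj_of_three hxR hx1⟩
  have hcard : Nat.card {p : G × G // IsConj x p.1 ∧ IsConj x p.2 ∧ p.1 * p.2 = x} =
      Nat.card (SelfThree.pairSet x) := by
    refine Nat.card_congr
      { toFun := fun p => ⟨p.1.1, (hiff _).1 p.2.1, by
          rw [show p.1.1⁻¹ * x = p.1.2 from (eq_inv_mul_of_mul_eq p.2.2.2).symm]
          exact (hiff _).1 p.2.2.1⟩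
        invFun := fun y => ⟨(y.1, y.1⁻¹ * x), (hiff _).2 y.2.1, (hiff _).2 y.2.2,
          mul_inv_cancel_left _ _⟩
        left_inv := fun p => Subtype.ext (Prod.ext rfl (eq_inv_mul_of_mul_eq p.2.2.2).symm)
        right_inv := fun y => rfl }
  have h := card_class_products x x x
  rw [hcard, D.card_conj_class hxR hx1,
    ← sum_irr_eq (fun χ => χ x * χ x * conj (χ x) / χ 1)] at h
  have hG : ((2 ^ a * q ^ b : ℕ) : ℂ) ≠ 0 := by
    have := D.prime.pos
    exact_mod_cast (Nat.mul_pos (Nat.two_pow_pos a) (pow_pos this b)).ne'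
  rw [D.card_eq, Nat.cast_mul (α := ℂ) 9] at h
  apply Rat.cast_injective (α := ℂ)
  push_cast at h hG ⊢
  rw [h]
  have e : ∀ χ : IrrCharacter G, (χ : G → ℂ) x * (χ : G → ℂ) x * conj ((χ : G → ℂ) x) /
      (χ : G → ℂ) 1 = (D.val hxR hx1 χ : ℂ) ^ 3 / (deg χ : ℂ) := fun χ => by
    rw [D.apply_x hxR hx1, map_intCast, apply_one_deg]; ring
  rw [Finset.sum_congr rfl fun χ _ => e χ]
  field_simp

/-- A bound for the negative terms. -/
theorem term_ge {χ : IrrCharacter G} (hne : χ ≠ oneIrr G) (h0 : D.val hxR hx1 χ ≠ 0) :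
    -((D.val hxR hx1 χ : ℚ) ^ 2) / 8 ≤ ((D.val hxR hx1 χ ^ 3 : ℤ) : ℚ) / (deg χ : ℚ) := by
  have hd : (0 : ℚ) < (deg χ : ℚ) := by exact_mod_cast deg_pos χ
  have h8 : (0 : ℚ) ≤ (deg χ : ℚ) + 8 * (D.val hxR hx1 χ : ℚ) := by
    exact_mod_cast D.val_nonneg hxR hx1 χ
  rw [le_div_iff₀ hd]
  push_cast
  nlinarith [sq_nonneg (D.val hxR hx1 χ : ℚ)]

/-- The sum of cubes over degrees is at least an eighth. -/
theorem eighth_le : (1 : ℚ) / 8 ≤
    ∑ χ : IrrCharacter G, ((D.val hxR hx1 χ ^ 3 : ℤ) : ℚ) / (deg χ : ℚ) := by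
  set f := D.val hxR hx1 with hfdef
  have hf1 : f (oneIrr G) = 1 := D.val_one hxR hx1
  set E := univ.erase (oneIrr G)
  set N := E.filter fun χ => f χ < 0
  have hsq : ∑ χ ∈ E, f χ * f χ = 8 := by
    have h := D.val_sq hxR hx1
    rw [← Finset.add_sum_erase univ _ (Finset.mem_univ (oneIrr G)), ← hfdef, hf1] at h
    linarith
  have hW : ∑ χ ∈ N, f χ * f χ ≤ 7 := by
    have hle : ∑ χ ∈ N, f χ * f χ ≤ ∑ χ ∈ E, f χ * f χ :=
      Finset.sum_le_sum_of_subset_of_nonneg (Finset.filter_subset _ _) fun χ _ _ => mul_self_nonneg _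
    by_contra hc
    have heq : ∑ χ ∈ E.filter (fun χ => ¬ f χ < 0), f χ * f χ = 0 := by
      have := Finset.sum_filter_add_sum_filter_not E (fun χ => f χ < 0) fun χ => f χ * f χ
      rw [hsq] at this
      linarith
    have hzero : ∀ χ ∈ E.filter (fun χ => ¬ f χ < 0), f χ = 0 := fun χ hχ =>
      mul_self_eq_zero.1 ((Finset.sum_eq_zero_iff_of_nonneg fun ψ _ => mul_self_nonneg _).1 heq χ hχ)
    have hd := D.val_deg hxR hx1
    rw [← hfdef] at hd
    rw [← Finset.add_sum_erase univ _ (Finset.mem_univ (oneIrr G)), hf1, D.deg_one,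
      ← Finset.sum_filter_add_sum_filter_not E (fun χ => f χ < 0),
      Finset.sum_eq_zero (s := E.filter fun χ => ¬ f χ < 0) fun χ hχ => by
        rw [hzero χ hχ, zero_mul]] at hd
    have hneg : ∑ χ ∈ N, f χ * deg χ ≤ ∑ χ ∈ N, -(f χ * f χ) := Finset.sum_le_sum fun χ hχ => by
      have h1 := (Finset.mem_filter.1 hχ).2
      have h2 : 0 ≤ deg χ + 8 * f χ := D.val_nonneg hxR hx1 χ
      nlinarith
    rw [Finset.sum_neg_distrib] at hneg
    linarith
  rw [← Finset.add_sum_erase univ _ (Finset.mem_univ (oneIrr G)), hf1, D.deg_one,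
    ← Finset.sum_filter_add_sum_filter_not E (fun χ => f χ < 0)]
  have h1 : ∑ χ ∈ N, (-((f χ : ℚ) ^ 2) / 8) ≤ ∑ χ ∈ N, ((f χ ^ 3 : ℤ) : ℚ) / (deg χ : ℚ) :=
    Finset.sum_le_sum fun χ hχ => D.term_ge hxR hx1
      (Finset.mem_erase.1 (Finset.mem_filter.1 hχ).1).1 (ne_of_lt (Finset.mem_filter.1 hχ).2)
  have h2 : 0 ≤ ∑ χ ∈ E.filter (fun χ => ¬ f χ < 0), ((f χ ^ 3 : ℤ) : ℚ) / (deg χ : ℚ) :=
    Finset.sum_nonneg fun χ hχ => div_nonneg
      (by exact_mod_cast pow_nonneg (not_lt.1 (Finset.mem_filter.1 hχ).2) 3)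
      (by exact_mod_cast (deg_pos χ).le)
  have h3 : ((∑ χ ∈ N, f χ * f χ : ℤ) : ℚ) ≤ 7 := by exact_mod_cast hW
  push_cast at h3
  have h4 : ∑ χ ∈ N, (-((f χ : ℚ) ^ 2) / 8) = -(∑ χ ∈ N, (f χ : ℚ) * f χ) / 8 := by
    rw [← Finset.sum_neg_distrib, Finset.sum_div]
    exact Finset.sum_congr rfl fun χ _ => by ring
  have h5 : ((((1 : ℤ) ^ 3 : ℤ)) : ℚ) / ((1 : ℤ) : ℚ) = 1 := by norm_num
  rw [h5]
  linarith

/-- The sum over a principal block is a multiple of the order of a Sylow subgroup. -/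
theorem block_dvd {p : ℕ} [Fact p.Prime] (hp3 : p ≠ 3) {M : Ideal AlgInt} [M.IsPrime]
    (hM : IsPModular p M) : ((p ^ (Nat.card G).factorization p : ℕ) : ℤ) ∣
      ∑ χ ∈ univ.filter (· ∈ principalBlock M G), D.val hxR hx1 χ * deg χ := by
  obtain ⟨P⟩ : Nonempty (Sylow p G) := inferInstance
  set B := univ.filter (· ∈ principalBlock M G)
  have hx := D.setup.orderOf_eq hxR hx1
  have hreg : ¬ p ∣ orderOf x := by
    rw [hx]
    exact fun h => hp3 ((Nat.prime_dvd_prime_iff_eq Fact.out Nat.prime_three).1 h)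
  -- the block sum vanishes off the identity
  have hvan : ∀ y : (P : Subgroup G), y ≠ 1 →
      ∑ χ ∈ B, (D.val hxR hx1 χ : ℂ) * (χ : G → ℂ) (y : G) = 0 := by
    intro y hy
    have hd : p ∣ orderOf (y : G) := by
      obtain ⟨k, hk⟩ := IsPGroup.iff_orderOf.1 P.2 y
      rw [Subgroup.orderOf_coe, hk]
      refine dvd_pow_self p fun h0 => hy ?_
      rw [h0, pow_zero] at hk
      exact orderOf_eq_one_iff.1 hk
    have h := weak_orth hM (isIntClass_blockCoeff (M := M)
      (isPBlock_principalBlock (M := M) (G := G))) hreg hd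
    have h' := congrArg conj h
    rw [map_sum, map_zero] at h'
    refine Eq.trans (Finset.sum_congr (by ext χ; simp [B]) fun χ _ => ?_) h'
    rw [map_mul, Complex.conj_conj, D.apply_x hxR hx1, map_intCast]
  choose m hm using fun χ : IrrCharacter G => IsCharacter.exists_classInner_eq_natCast'
    (IsCharacter.restrict (isCharacter_irr χ) (P : Subgroup G))
    (isCharacter_one (G := (P : Subgroup G)))
  refine ⟨∑ χ ∈ B, D.val hxR hx1 χ * (m χ : ℤ), ?_⟩
  rw [← P.card_eq_multiplicity]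
  apply Int.cast_injective (α := ℂ)
  push_cast
  simp only [← hm, classInner_def, map_one, mul_one]
  rw [Finset.mul_sum]
  have hc : (Nat.card (P : Subgroup G) : ℂ) ≠ 0 := Nat.cast_ne_zero.2 Nat.card_pos.ne'
  calc ∑ χ ∈ B, (D.val hxR hx1 χ : ℂ) * (deg χ : ℂ)
      = ∑ y : (P : Subgroup G), ∑ χ ∈ B, (D.val hxR hx1 χ : ℂ) * (χ : G → ℂ) (y : G) := by
        rw [Finset.sum_eq_single (1 : (P : Subgroup G)) (fun y _ hy => hvan y hy)
          (fun h => absurd (Finset.mem_univ _) h)]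
        exact Finset.sum_congr rfl fun χ _ => by rw [Subgroup.coe_one, apply_one_deg]
    _ = _ := by
        rw [Finset.sum_comm]
        refine Finset.sum_congr rfl fun χ _ => ?_
        rw [← Finset.mul_sum]
        field_simp

/-- A degree with non-zero value at `x`. -/
theorem deg_form {χ : IrrCharacter G} (hne : χ ≠ oneIrr G) (h0 : D.val hxR hx1 χ ≠ 0) :
    ∃ i j, i ≤ a ∧ j ≤ b ∧ charDegree (χ : G → ℂ) = 2 ^ i * q ^ j := by
  haveI := D.simp
  have hd := NineTwo.degree_dvd χ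
  have h3 : ¬ 3 ∣ charDegree (χ : G → ℂ) := fun h => by
    have h9 := D.val_congr hxR hx1 χ
    have h3 : (3 : ℤ) ∣ deg χ := Int.natCast_dvd_natCast.2 h
    rcases D.val_cases hxR hx1 hne h0 with e | e | e | e <;> rw [e] at h9 <;> omega
  rw [D.card_eq] at hd
  obtain ⟨d1, d2, h1, h2, he⟩ := Nat.dvd_mul.1
    ((Nat.Coprime.pow_right 2 (Nat.prime_three.coprime_iff_not_dvd.2 h3).symm :
      Nat.Coprime _ 9).dvd_of_dvd_mul_left hd)
  obtain ⟨i, hi, rfl⟩ := (Nat.dvd_prime_pow Nat.prime_two).1 h1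
  obtain ⟨j, hj, rfl⟩ := (Nat.dvd_prime_pow D.prime).1 h2
  exact ⟨i, j, hi, hj, he.symm⟩

/-- In a principal block the other prime divides the degree. -/
theorem other_dvd {χ : IrrCharacter G} (hne : χ ≠ oneIrr G) (h0 : D.val hxR hx1 χ ≠ 0) {p r : ℕ}
    [Fact p.Prime] (hpr : (p = 2 ∧ r = q) ∨ (p = q ∧ r = 2)) {M : Ideal AlgInt}
    (hM : IsPModular p M) (hB : χ ∈ principalBlock M G) : (r : ℤ) ∣ deg χ := by
  haveI := D.simp
  have hna : ∃ s t : G, s * t ≠ t * s := by
    by_contra hc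
    push Not at hc
    exact D.nonab ⟨⟨hc⟩⟩
  have hpure : ∀ k : ℕ, charDegree (χ : G → ℂ) ≠ p ^ k := fun k hk => hne (Subtype.ext (by
    rw [oneIrr_coe]
    exact Cfsg.Agent.S0910.result p M hM hna χ hB k (by rw [(irr_one χ).1, hk]; push_cast; ring)))
  obtain ⟨i, j, -, -, he⟩ := D.deg_form hxR hx1 hne h0
  show (r : ℤ) ∣ ((charDegree (χ : G → ℂ) : ℕ) : ℤ)
  rw [Int.natCast_dvd_natCast, he]
  rcases hpr with ⟨rfl, rfl⟩ | ⟨rfl, rfl⟩
  · rcases Nat.eq_zero_or_pos j with rfl | hj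
    · exact absurd (by rw [he]; ring) (hpure i)
    · exact Dvd.dvd.mul_left (dvd_pow_self _ hj.ne') _
  · rcases Nat.eq_zero_or_pos i with rfl | hi
    · exact absurd (by rw [he]; ring) (hpure j)
    · exact Dvd.dvd.mul_right (dvd_pow_self _ hi.ne') _

include hxR hx1 in
/-- The two prime powers are within a factor of eighty-one. -/
theorem pow_le {p r e e' : ℕ} [hp : Fact p.Prime] (hpr : (p = 2 ∧ r = q) ∨ (p = q ∧ r = 2))
    (hr : r.Prime) (he : (Nat.card G).factorization p = e)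
    (hG : 2 ^ a * q ^ b = p ^ e * r ^ e') : p ^ e ≤ 81 * r ^ e' := by
  obtain ⟨M, hM⟩ := exists_isPModular hp.out
  haveI : M.IsPrime := hM.2.1.isPrime
  set B := univ.filter (· ∈ principalBlock M G)
  have hp3 : p ≠ 3 := by
    rcases hpr with ⟨rfl, -⟩ | ⟨rfl, -⟩
    · norm_num
    · exact D.q3
  have hdvd := D.block_dvd hxR hx1 hp3 hM
  rw [he] at hdvd
  set S := ∑ χ ∈ B, D.val hxR hx1 χ * deg χ
  have h1 : oneIrr G ∈ B := Finset.mem_filter.2 ⟨Finset.mem_univ _, oneIrr_mem_principalBlock⟩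
  have hS : ¬ (r : ℤ) ∣ S := by
    intro h
    have hrest : (r : ℤ) ∣ ∑ χ ∈ B.erase (oneIrr G), D.val hxR hx1 χ * deg χ :=
      Finset.dvd_sum fun χ hχ => by
        rcases eq_or_ne (D.val hxR hx1 χ) 0 with h0 | h0
        · simp [h0]
        · exact (D.other_dvd hxR hx1 (Finset.ne_of_mem_erase hχ) h0 hpr hM
            (Finset.mem_filter.1 (Finset.mem_of_mem_erase hχ)).2).mul_left _
    simp only [S] at h
    rw [← Finset.add_sum_erase B _ h1, D.val_one, D.deg_one, mul_one] at h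
    have h2 := (dvd_add_left hrest).1 h
    have := Int.natCast_dvd_natCast.1 (show ((r : ℕ) : ℤ) ∣ ((1 : ℕ) : ℤ) from h2)
    exact hr.one_lt.ne' (Nat.dvd_one.1 this)
  obtain ⟨c, hc⟩ := hdvd
  have hc0 : c ≠ 0 := fun h => hS (by rw [hc, h, mul_zero]; exact dvd_zero _)
  have hcs : S ^ 2 ≤ 9 * (9 * (2 ^ a * q ^ b : ℕ)) := by
    refine le_trans (Finset.sum_mul_sq_le_sq_mul_sq _ _ _) ?_
    refine mul_le_mul ?_ ?_ (Finset.sum_nonneg fun _ _ => sq_nonneg _) (by norm_num)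
    · refine le_trans (le_of_eq (Finset.sum_congr rfl fun χ _ => sq _)) ?_
      exact (Finset.sum_le_sum_of_subset_of_nonneg (Finset.subset_univ B) fun χ _ _ =>
        mul_self_nonneg _).trans (D.val_sq hxR hx1).le
    · refine le_trans (le_of_eq (Finset.sum_congr rfl fun χ _ => sq _)) ?_
      exact (Finset.sum_le_sum_of_subset_of_nonneg (Finset.subset_univ B) fun χ _ _ =>
        mul_self_nonneg _).trans D.deg_sq.le
  have hsq : ((p ^ e : ℕ) : ℤ) ^ 2 ≤ S ^ 2 := by
    rw [hc, mul_pow]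
    exact le_mul_of_one_le_right (sq_nonneg _) (by
      rcases lt_or_gt_of_ne hc0 with h | h <;> nlinarith)
  rw [hG] at hcs
  have hfin : ((p ^ e * p ^ e : ℕ) : ℤ) ≤ ((p ^ e * (81 * r ^ e') : ℕ) : ℤ) := by
    push_cast at hcs hsq ⊢
    nlinarith
  exact Nat.le_of_mul_le_mul_left (Int.ofNat_le.1 hfin) (pow_pos hp.out.pos e)

end

end Hyp

end CfsgLib.NineOne
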