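import Cfsg.Agent.NineOne.Max
import Cfsg.Agent.SelfThree.Chars
import Cfsg.Agent.SmallSimple.Basic

/-!
# Pairs of elements of order three with product `x`

Each pair outside `R` gives an element of a maximal `x`-invariant subgroup of order prime to
three, and there are few of these subgroups.
-/

set_option autoImplicit false
set_option linter.unusedSectionVars false
set_option linter.style.haveILetI false

namespace CfsgLib.NineOne

open Subgroup CfsgLib.SelfThree CfsgLib.NilpotentPart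

universe u

variable {G : Type u} [Group G] [Finite G] {q a b : ℕ} {R : Subgroup G}

/-- A group of order four is generated by two non-trivial elements. -/
theorem four_elems {F : Subgroup G} (h4 : Nat.card F = 4) {s z : G} (hs : s ∈ F) (hz : z ∈ F)
    (hs1 : s ≠ 1) (hz1 : z ≠ 1) (hsz : s ≠ z) (hss : s * s = 1) (hzz : z * z = 1) :
    ∀ v ∈ F, v = 1 ∨ v = s ∨ v = z ∨ v = s * z := by
  classical
  haveI := Fintype.ofFinite F
  intro v hv
  by_contra hall
  push Not at hall
  obtain ⟨h1, h2, h3, h4'⟩ := hall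
  have hsz1 : s * z ≠ 1 := fun e => hsz (mul_right_cancel (e.trans hzz.symm))
  have hssz : s * z ≠ s := fun e => hz1 (mul_eq_left.1 e)
  have hzsz : s * z ≠ z := fun e => hs1 (mul_eq_right.1 e)
  have := (Finset.card_le_card (Finset.subset_univ ({1, ⟨s, hs⟩, ⟨z, hz⟩, ⟨s * z, mul_mem hs hz⟩,
    ⟨v, hv⟩} : Finset F)))
  rw [Finset.card_univ, ← Nat.card_eq_fintype_card, h4] at this
  simp [Finset.card_insert_of_notMem, Subtype.ext_iff, hs1, hz1, hsz, hsz1, hssz, hzsz,
    hs1.symm, hz1.symm, hsz1.symm, hssz.symm, hzsz.symm, Ne.symm h1, Ne.symm h2, Ne.symm h3,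
    Ne.symm h4'] at this

namespace Hyp

variable (D : Hyp G q a b R)
include D

/-- A pair gives an element of a maximal invariant subgroup. -/
theorem pair_cases {x y : G} (hxR : x ∈ R) (hx1 : x ≠ 1) (hy : y ∈ pairSet x) :
    y ∈ R ∨ ∃ F, IsMax x F ∧ x * y ∈ F ∧ x * y ≠ 1 := by
  classical
  have hx := D.setup.orderOf_eq hxR hx1
  have hx3 : x * x * x = 1 := by rw [← D.setup.cube x hxR, pow_succ, pow_two]
  obtain ⟨hy1, hy2⟩ := hy
  have hy3 : y * y * y = 1 := by rw [← pow_orderOf_eq_one y, hy1, pow_succ, pow_two]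
  have hz3 : (y⁻¹ * x) * (y⁻¹ * x) * (y⁻¹ * x) = 1 := by
    rw [← pow_orderOf_eq_one (y⁻¹ * x), hy2, pow_succ, pow_two]
  set u := x * y with hu
  have hxx : x⁻¹ = x * x := inv_eq_of_mul_eq_one_left hx3
  have hy' : y = x * x * u := by rw [hu, ← mul_assoc, hx3, one_mul]
  set u1 := x * u * x⁻¹ with hu1
  set u2 := x * u1 * x⁻¹ with hu2
  have E1 : u2 * u1 * u = 1 := by
    calc u2 * u1 * u = x * x * u * (x⁻¹ * u * x⁻¹ * u) := by rw [hu2, hu1]; group
      _ = x * x * u * (x * x * u * (x * x) * u) := by rw [hxx]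
      _ = y * y * y := by rw [hy']; group
      _ = 1 := hy3
  have E2 : u1 * u2 * u = 1 := by
    have h := congrArg (fun v => v⁻¹) hz3
    simp only [mul_inv_rev, inv_inv, inv_one] at h
    calc u1 * u2 * u = x * u * (x * u * x⁻¹ * x⁻¹) * u := by rw [hu2, hu1]; group
      _ = x * u * (x * u) * ((x * x) * (x * x)) * u := by rw [hxx]; group
      _ = x * u * (x * u) * ((x * x * x) * (x * u)) := by group
      _ = x⁻¹ * y * (x⁻¹ * y) * (x⁻¹ * y) := by rw [hx3, hu, hxx]; group
      _ = 1 := by rw [← h]; group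
  have h3 : x ^ 3 = 1 := D.setup.cube x hxR
  have hshift : x * u2 * x⁻¹ = u := by
    calc x * u2 * x⁻¹ = x ^ 3 * u * (x ^ 3)⁻¹ := by
          rw [hu2, hu1, pow_succ, pow_succ, pow_one]; group
      _ = u := by rw [h3]; group
  have hc12 : u2 * u1 = u1 * u2 := by
    rw [eq_inv_of_mul_eq_one_left E1, eq_inv_of_mul_eq_one_left E2]
  have hc20 : u * u2 = u2 * u := by
    calc u * u2 = x * (u2 * u1) * x⁻¹ := by rw [← hshift, hu2]; group
      _ = x * (u1 * u2) * x⁻¹ := by rw [hc12]
      _ = u2 * u := by rw [← hshift, hu2]; group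
  have hc01 : u1 * u = u * u1 := by
    calc u1 * u = (x * u * x⁻¹) * (x * u2 * x⁻¹) := by rw [hshift, hu1]
      _ = x * (u * u2) * x⁻¹ := by group
      _ = x * (u2 * u) * x⁻¹ := by rw [hc20]
      _ = (x * u2 * x⁻¹) * (x * u * x⁻¹) := by group
      _ = u * u1 := by rw [hshift, hu1]
  set A := closure ({u, u1} : Set G) with hA
  have hAc : ∀ v ∈ A, ∀ w ∈ A, v * w = w * v := by
    haveI : IsMulCommutative A := isMulCommutative_closure (by
      rintro v (rfl | rfl) w (rfl | rfl)
      · rfl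
      · exact hc01.symm
      · exact hc01
      · rfl)
    exact fun v hv w hw => setLike_mul_comm (S := Subgroup G) hv hw
  have huA : u ∈ A := subset_closure (Or.inl rfl)
  have hu1A : u1 ∈ A := subset_closure (Or.inr rfl)
  have hu2A : u2 ∈ A := by
    rw [eq_inv_of_mul_eq_one_left (show u2 * (u1 * u) = 1 by rw [← mul_assoc, E1])]
    exact inv_mem (mul_mem hu1A huA)
  have hxA : x ∈ normalizer (A : Set G) := by
    refine mem_normalizer_iff_map_conj_eq.2 (eq_of_le_of_card_ge ?_ (card_cj x A).ge)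
    rw [hA, MonoidHom.map_closure, closure_le]
    rintro _ ⟨v, rfl | rfl, rfl⟩
    · show x * u * x⁻¹ ∈ A
      exact hu1A
    · show x * u1 * x⁻¹ ∈ A
      exact hu2A
  by_cases hA3 : 3 ∣ Nat.card A
  · left
    haveI : Fact (Nat.Prime 3) := ⟨Nat.prime_three⟩
    let W : Subgroup G :=
      { carrier := {v | v ∈ A ∧ v * v * v = 1}
        one_mem' := ⟨one_mem A, by simp⟩
        mul_mem' := fun {v w} hv hw => ⟨mul_mem hv.1 hw.1, by
          have hc : Commute v w := hAc v hv.1 w hw.1
          have e : (v * w) ^ 3 = v ^ 3 * w ^ 3 := hc.mul_pow 3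
          simp only [pow_succ, pow_zero, one_mul] at e
          rw [e, hv.2, hw.2, one_mul]⟩
        inv_mem' := fun {v} hv => ⟨inv_mem hv.1, by rw [← mul_inv_rev, ← mul_inv_rev, ← mul_assoc,
          hv.2, inv_one]⟩ }
    obtain ⟨⟨w, hwA⟩, hw⟩ := exists_prime_orderOf_dvd_card' (G := A) 3 hA3
    rw [Subgroup.orderOf_mk] at hw
    have hwW : w ∈ W := ⟨hwA, by rw [← pow_orderOf_eq_one w, hw, pow_succ, pow_two]⟩
    have hdW : 3 ∣ Nat.card W := by
      have := orderOf_dvd_natCard (⟨w, hwW⟩ : W)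
      rwa [Subgroup.orderOf_mk, hw] at this
    have hWx : ∀ v ∈ W, x * v * x⁻¹ ∈ W := fun v hv => ⟨(mem_normalizer_iff.1 hxA v).1 hv.1, by
      calc x * v * x⁻¹ * (x * v * x⁻¹) * (x * v * x⁻¹) = x * (v * v * v) * x⁻¹ := by group
        _ = 1 := by rw [hv.2]; group⟩
    haveI := Fintype.ofFinite W
    let f : Function.End W := fun v => ⟨x * v * x⁻¹, hWx v v.2⟩
    have hf : f ^ 3 ^ 1 = 1 := by
      funext v
      apply Subtype.ext
      show x * (x * (x * v * x⁻¹) * x⁻¹) * x⁻¹ = v
      calc _ = x ^ 3 * v * (x ^ 3)⁻¹ := by rw [pow_succ, pow_succ, pow_one]; group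
        _ = (v : G) := by rw [h3]; group
    have hmod := Equiv.Perm.card_fixedPoints_modEq hf
    obtain ⟨v, hv1⟩ : ∃ v : Function.fixedPoints f, ((v : W) : G) ≠ 1 := by
      by_contra hall
      push Not at hall
      have h1 : Fintype.card (Function.fixedPoints f) = 1 := Fintype.card_eq_one_iff.2
        ⟨⟨1, Subtype.ext (show x * (1 : G) * x⁻¹ = 1 by group)⟩,
          fun v => Subtype.ext (Subtype.ext (hall v))⟩
      rw [h1] at hmod
      rw [Nat.card_eq_fintype_card] at hdW
      have := Nat.mod_eq_zero_of_dvd hdW |>.symm.trans hmod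
      omega
    have hvx : x * ((v : W) : G) * x⁻¹ = (v : W) := congrArg Subtype.val v.2
    have hvR := D.setup.mem_of_commute hxR hx1 (mul_inv_eq_iff_eq_mul.1 hvx).symm
    have huR := D.setup.mem_of_commute hvR hv1 (hAc u huA _ (v : W).2.1)
    rw [hy']
    exact mul_mem (mul_mem hxR hxR) huR
  · by_cases hu0 : u = 1
    · left
      rw [hy', hu0, mul_one]
      exact mul_mem hxR hxR
    right
    obtain ⟨F, hAF, hF⟩ := Finite.exists_le_maximal (p := fun U => Inv x U) ⟨hA3, hxA⟩
    exact ⟨F, ⟨hF.prop, fun e => hu0 (mem_bot.1 (e ▸ hAF huA)),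
      fun U hU hle => le_antisymm (hF.2 hU hle) hle⟩, hAF huA, hu0⟩

/-- The pair count is bounded by the maximal invariant subgroups. -/
theorem card_pairSet_le {x : G} (hxR : x ∈ R) (hx1 : x ≠ 1) (Mx : Finset (Subgroup G))
    (hMx : ∀ F, IsMax x F → F ∈ Mx) :
    Nat.card (pairSet x) ≤ 9 + ∑ F ∈ Mx, (Nat.card F - 1) := by
  classical
  haveI := Fintype.ofFinite G
  let P : Finset G := Finset.univ.filter (· ∈ pairSet x)
  let Rf : Finset G := Finset.univ.filter (· ∈ R)
  let U : Subgroup G → Finset G := fun F => Finset.univ.filter fun y => x * y ∈ F ∧ x * y ≠ 1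
  have hP : P ⊆ Rf ∪ Mx.biUnion U := by
    intro y hy
    rcases D.pair_cases hxR hx1 (Finset.mem_filter.1 hy).2 with h | ⟨F, hF, h1, h2⟩
    · exact Finset.mem_union_left _ (Finset.mem_filter.2 ⟨Finset.mem_univ _, h⟩)
    · exact Finset.mem_union_right _ (Finset.mem_biUnion.2
        ⟨F, hMx F hF, Finset.mem_filter.2 ⟨Finset.mem_univ _, h1, h2⟩⟩)
  have hU : ∀ F : Subgroup G, (U F).card ≤ Nat.card F - 1 := by
    intro F
    have h1 : (U F).image (x * ·) ⊆ (Finset.univ.filter (· ∈ F)).erase 1 := by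
      intro v hv
      obtain ⟨y, hy, rfl⟩ := Finset.mem_image.1 hv
      obtain ⟨-, h1, h2⟩ := Finset.mem_filter.1 hy
      exact Finset.mem_erase.2 ⟨h2, Finset.mem_filter.2 ⟨Finset.mem_univ _, h1⟩⟩
    have := Finset.card_le_card h1
    rw [Finset.card_image_of_injective _ (mul_right_injective x),
      Finset.card_erase_of_mem (by simp [one_mem]),
      show (Finset.univ.filter (· ∈ F)).card = Nat.card F by
        rw [← Fintype.card_subtype, ← Nat.card_eq_fintype_card]] at this
    exact this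
  have h := (Finset.card_le_card hP).trans (Finset.card_union_le _ _)
  have h2 := Finset.card_biUnion_le (s := Mx) (t := U) |>.trans (Finset.sum_le_sum fun F _ => hU F)
  have eP : P.card = Nat.card (pairSet x) := by
    rw [← Fintype.card_subtype, ← Nat.card_eq_fintype_card]
  have eR : Rf.card = 9 := by
    rw [← Fintype.card_subtype, ← Nat.card_eq_fintype_card]; exact D.setup.card
  omega

/-- A family of conjugates of `F` normalised by `x`. -/
theorem card_family_mul {F : Subgroup G} {x : G} (hF : IsMax x F) (hx : orderOf x = 3)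
    (S : Finset (Subgroup G))
    (hS : ∀ V ∈ S, (∃ g, V = cj g F) ∧ x ∈ normalizer (V : Set G)) :
    S.card * Nat.card (normalizer (F : Set G)) ≤ 18 * Nat.card F := by
  refine le_trans (Nat.mul_le_mul_right _ ?_) (D.card_conjugates hF hx)
  rw [← Nat.card_eq_finsetCard]
  exact Nat.card_le_card_of_injective
    (fun V => (⟨V.1, hS V.1 V.2⟩ : {V : Subgroup G // (∃ g, V = cj g F) ∧ x ∈ normalizer (V : Set G)}))
    fun V W e => Subtype.ext (congrArg Subtype.val e :)

/-- The sum over a conjugate family. -/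
theorem sum_family {x : G} (hx : orderOf x = 3) (S : Finset (Subgroup G))
    (hS : ∀ F ∈ S, IsMax x F) (hconj : ∀ F ∈ S, ∀ F' ∈ S, ∃ g, F' = cj g F) {k B : ℕ}
    (hk : ∀ F ∈ S, Nat.card (normalizer (F : Set G)) = k * Nat.card F)
    (hB : ∀ F ∈ S, 18 / k * Nat.card F ≤ B) (hk0 : 0 < k) :
    ∑ F ∈ S, (Nat.card F - 1) ≤ B := by
  rcases S.eq_empty_or_nonempty with rfl | ⟨F₀, hF₀⟩
  · simp
  have hc : ∀ F ∈ S, Nat.card F - 1 ≤ Nat.card F₀ := fun F hF => by
    obtain ⟨g, rfl⟩ := hconj F₀ hF₀ F hF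
    rw [card_cj]; omega
  have h1 := D.card_family_mul (hS F₀ hF₀) hx S fun V hV =>
    ⟨hconj F₀ hF₀ V hV, (hS V hV).inv.2⟩
  rw [hk F₀ hF₀, ← mul_assoc] at h1
  have h2 : S.card ≤ 18 / k :=
    (Nat.le_div_iff_mul_le hk0).2 (Nat.le_of_mul_le_mul_right h1 Nat.card_pos)
  calc _ ≤ S.card * Nat.card F₀ := by
        have := Finset.sum_le_card_nsmul S _ _ hc; rwa [smul_eq_mul] at this
    _ ≤ _ := Nat.mul_le_mul_right _ h2
    _ ≤ B := hB F₀ hF₀

/-- There are at most nine maximal invariant subgroups of order four with normaliser of order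
twenty-four. -/
theorem card_small {x : G} (hx : orderOf x = 3) (S : Finset (Subgroup G))
    (hS : ∀ F ∈ S, IsMax x F ∧ Nat.card F = 4 ∧
      Nat.card (normalizer (F : Set G)) = 6 * Nat.card F) : S.card ≤ 9 := by
  classical
  rcases S.eq_empty_or_nonempty with rfl | ⟨F0, hF0⟩
  · simp
  haveI := Fintype.ofFinite G
  haveI : Fact (Nat.Prime 2) := ⟨Nat.prime_two⟩
  have h2p : ∀ F : Subgroup G, Nat.card F = 4 → IsPGroup 2 F := fun F h =>
    IsPGroup.of_card (n := 2) (by rw [h]; norm_num)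
  obtain ⟨T₀, hT₀⟩ := (h2p F0 (hS F0 hF0).2.1).exists_le_sylow
  haveI : Nontrivial (T₀ : Subgroup G) := by
    obtain ⟨v, hv, hv1⟩ := (bot_or_exists_ne_one F0).resolve_left (hS F0 hF0).1.ne_bot
    exact nontrivial_of_ne (⟨v, hT₀ hv⟩ : (T₀ : Subgroup G)) 1
      fun e => hv1 (congrArg Subtype.val e)
  haveI := T₀.2.center_nontrivial
  obtain ⟨⟨⟨z, hzT⟩, hzc⟩, hz0⟩ := exists_ne (1 : center (T₀ : Subgroup G))
  have hz1 : z ≠ 1 := fun e => hz0 (Subtype.ext (Subtype.ext e))
  have hzcomm : ∀ p ∈ (T₀ : Subgroup G), p * z = z * p := fun p hp =>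
    congrArg Subtype.val (mem_center_iff.1 hzc ⟨p, hp⟩)
  have key : ∀ F ∈ S, ∃ g s : G, cj g F ≤ T₀ ∧ s ∈ cj g F ∧ z ∈ cj g F ∧ s ≠ 1 ∧ s ≠ z ∧
      (∀ v ∈ cj g F, v = 1 ∨ v = s ∨ v = z ∨ v = s * z) ∧
      (∀ p ∈ (T₀ : Subgroup G), Commute p s → p ∈ cj g F) := by
    intro F hF
    obtain ⟨hmax, h4, -⟩ := hS F hF
    obtain ⟨P, hP⟩ := (h2p F h4).exists_le_sylow
    obtain ⟨g, hg⟩ := MulAction.exists_smul_eq G P T₀
    have hle : cj g F ≤ T₀ := by
      rw [← hg, Sylow.coe_subgroup_smul]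
      exact cj_mono g hP
    have hcent : centralizer ((cj g F : Subgroup G) : Set G) ≤ cj g F := by
      refine D.centralizer_le (isMax_cj hmax g) ?_ (by rw [card_cj, h4])
      rw [← hx]; exact orderOf_injective (MulAut.conj g).toMonoidHom (MulAut.conj g).injective x
    have hzF : z ∈ cj g F := hcent (mem_centralizer_iff.2 fun v hv => hzcomm v (hle hv))
    have h4' : Nat.card (cj g F) = 4 := by rw [card_cj, h4]
    obtain ⟨s, hs, hs1, hsz⟩ : ∃ s ∈ cj g F, s ≠ 1 ∧ s ≠ z := by
      by_contra hall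
      push Not at hall
      have hsub : (Finset.univ.filter (· ∈ cj g F)) ⊆ ({1, z} : Finset G) := fun v hv => by
        by_cases h1 : v = 1
        · simp [h1]
        · simp [hall v (Finset.mem_filter.1 hv).2 h1]
      have h := (Finset.card_le_card hsub).trans Finset.card_le_two
      rw [← Fintype.card_subtype, ← Nat.card_eq_fintype_card] at h
      change Nat.card (cj g F) ≤ 2 at h
      omega
    -- the subgroup is a four-group
    have hsq : ∀ v ∈ cj g F, v * v = 1 := by
      intro v hv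
      have hd := orderOf_dvd_natCard (⟨v, hv⟩ : cj g F)
      rw [Subgroup.orderOf_mk, h4'] at hd
      have hd' : orderOf v ∣ 2 ^ 2 := hd
      obtain ⟨i, hi, e⟩ := (Nat.dvd_prime_pow Nat.prime_two).1 hd'
      interval_cases i
      · rw [orderOf_eq_one_iff.1 (e.trans (pow_zero 2)), mul_one]
      · rw [← pow_two, ← orderOf_dvd_iff_pow_eq_one, e, pow_one]
      · exfalso
        have hord : orderOf v = 4 := by rw [e]; norm_num
        -- an element of order four would be inverted or fixed by the automorphism of order three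
        obtain ⟨hf, -⟩ := (isMax_cj hmax g)
        set x' := g * x * g⁻¹
        have hx' : orderOf x' = 3 := by
          rw [← hx]; exact orderOf_injective (MulAut.conj g).toMonoidHom (MulAut.conj g).injective x
        have hzp : zpowers v = cj g F := eq_of_le_of_card_ge (zpowers_le.2 hv)
          (by rw [h4', Nat.card_zpowers, hord])
        have hv2 : x' * (v * v) * x'⁻¹ = v * v := by
          obtain ⟨i, hi⟩ := mem_zpowers_iff.1 (hzp ▸ (mem_normalizer_iff.1 hf.2 v).1 hv :
            x' * v * x'⁻¹ ∈ zpowers v)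
          have h4v : v ^ (4 : ℤ) = 1 := by
            rw [show (4 : ℤ) = ((4 : ℕ) : ℤ) by rfl, zpow_natCast, ← hord, pow_orderOf_eq_one]
          rcases Int.even_or_odd i with ⟨j, rfl⟩ | ⟨j, rfl⟩
          · exfalso
            have h2 : (x' * v * x'⁻¹) * (x' * v * x'⁻¹) = 1 := by
              rw [← hi, ← zpow_add, show j + j + (j + j) = 4 * j by ring, zpow_mul, h4v, one_zpow]
            have : v * v = 1 := by
              calc v * v = x'⁻¹ * ((x' * v * x'⁻¹) * (x' * v * x'⁻¹)) * x' := by group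
                _ = 1 := by rw [h2]; group
            rw [← pow_two, ← orderOf_dvd_iff_pow_eq_one, hord] at this
            norm_num at this
          · calc x' * (v * v) * x'⁻¹ = (x' * v * x'⁻¹) * (x' * v * x'⁻¹) := by group
              _ = v ^ (4 * j) * (v * v) := by
                rw [← hi, ← zpow_add, show 2 * j + 1 + (2 * j + 1) = 4 * j + (1 + 1) by ring,
                  zpow_add, zpow_add, zpow_one]
              _ = v * v := by rw [zpow_mul, h4v, one_zpow, one_mul]
        have h1 : v * v = 1 := D.fpf_max (isMax_cj hmax g) hx' (mul_mem hv hv)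
          (mul_inv_eq_iff_eq_mul.1 hv2).symm
        rw [← pow_two, ← orderOf_dvd_iff_pow_eq_one, hord] at h1
        norm_num at h1
    have hfour := four_elems h4' hs hzF hs1 hz1 hsz (hsq s hs) (hsq z hzF)
    refine ⟨g, s, hle, hs, hzF, hs1, hsz, hfour, fun p hp hc => hcent
      (mem_centralizer_iff.2 fun v hv => ?_)⟩
    have hpz : Commute p z := hzcomm p hp
    rcases hfour v hv with rfl | rfl | rfl | rfl
    · simp
    · exact hc.symm.eq
    · exact hpz.symm.eq
    · exact (hc.mul_right hpz).symm.eq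
  choose! g s hle hs hz hs1 hsz hfour hcom using key
  let Tf : Finset G := Finset.univ.filter (· ∈ (T₀ : Subgroup G))
  let O : Subgroup G → Finset G := fun F => Tf.image fun p => p * s F * p⁻¹
  have hT : Tf.card = Nat.card (T₀ : Subgroup G) := by
    rw [← Fintype.card_subtype, ← Nat.card_eq_fintype_card]
  -- each orbit is at least a quarter of the Sylow subgroup
  have hO : ∀ F ∈ S, Tf.card ≤ 4 * (O F).card := by
    intro F hF
    refine Finset.card_le_mul_card_image Tf 4 fun v hv => ?_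
    obtain ⟨p0, hp0, rfl⟩ := Finset.mem_image.1 hv
    have hp0' := (Finset.mem_filter.1 hp0).2
    have h4 : (Finset.univ.filter (· ∈ cj (g F) F)).card = 4 := by
      rw [← Fintype.card_subtype, ← Nat.card_eq_fintype_card]
      exact (card_cj _ _).trans (hS F hF).2.1
    rw [← h4]
    refine Finset.card_le_card_of_injOn (fun p => p0⁻¹ * p) (fun p hp => ?_)
      fun p _ r _ e => mul_left_cancel e
    obtain ⟨hpT, he⟩ := Finset.mem_filter.1 hp
    refine Finset.mem_filter.2 ⟨Finset.mem_univ _, hcom F hF _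
      (mul_mem (inv_mem hp0') (Finset.mem_filter.1 hpT).2) ?_⟩
    show p0⁻¹ * p * s F = s F * (p0⁻¹ * p)
    calc p0⁻¹ * p * s F = p0⁻¹ * (p * s F * p⁻¹) * p := by group
      _ = p0⁻¹ * (p0 * s F * p0⁻¹) * p := by rw [he]
      _ = s F * (p0⁻¹ * p) := by group
  -- meeting orbits come from conjugate subgroups
  have hmeet : ∀ F ∈ S, ∀ F' ∈ S, ∀ v, v ∈ O F → v ∈ O F' → ∃ w, F' = cj w F := by
    intro F hF F' hF' v hv hv'
    obtain ⟨p, hp, hp'⟩ := Finset.mem_image.1 hv
    obtain ⟨r, hr, hr'⟩ := Finset.mem_image.1 hv'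
    have hpT := (Finset.mem_filter.1 hp).2
    have hrT := (Finset.mem_filter.1 hr).2
    set w := r⁻¹ * p with hw
    have hws : w * s F * w⁻¹ = s F' := by
      calc w * s F * w⁻¹ = r⁻¹ * (p * s F * p⁻¹) * r := by rw [hw]; group
        _ = r⁻¹ * (r * s F' * r⁻¹) * r := by rw [hp', hr']
        _ = s F' := by group
    have hwz : w * z * w⁻¹ = z := by
      rw [hzcomm w (mul_mem (inv_mem hrT) hpT)]; group
    refine ⟨(g F')⁻¹ * (w * g F), ?_⟩
    have h1 : cj w (cj (g F) F) = cj (g F') F' := by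
      refine eq_of_le_of_card_ge (fun u hu => ?_) (by
        simp only [card_cj]; rw [(hS F hF).2.1, (hS F' hF').2.1])
      obtain ⟨u, hu', rfl⟩ := hu
      show w * u * w⁻¹ ∈ cj (g F') F'
      rcases hfour F hF u hu' with rfl | rfl | rfl | rfl
      · simp [one_mem]
      · rw [hws]; exact hs F' hF'
      · rw [hwz]; exact hz F' hF'
      · rw [show w * (s F * z) * w⁻¹ = (w * s F * w⁻¹) * (w * z * w⁻¹) by group, hws, hwz]
        exact mul_mem (hs F' hF') (hz F' hF')
    rw [cj_mul] at h1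
    rw [← cj_mul, h1, cj_mul, inv_mul_cancel, cj_one]
  let I : Finset (Finset G) := S.image O
  have hfib : ∀ o ∈ I, (S.filter fun F => O F = o).card ≤ 3 := by
    intro o ho
    obtain ⟨F, hF, rfl⟩ := Finset.mem_image.1 ho
    have h1 := D.card_family_mul (hS F hF).1 hx (S.filter fun F' => O F' = O F) fun V hV => by
      obtain ⟨hV', he⟩ := Finset.mem_filter.1 hV
      refine ⟨hmeet F hF V hV' (s F) ?_ ?_, (hS V hV').1.inv.2⟩
      · exact Finset.mem_image.2 ⟨1, by simp [Tf, one_mem], by group⟩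
      · rw [he]; exact Finset.mem_image.2 ⟨1, by simp [Tf, one_mem], by group⟩
    rw [(hS F hF).2.2, (hS F hF).2.1] at h1
    omega
  have hI : I.card ≤ 3 := by
    by_contra hI
    obtain ⟨J, hJI, hJ⟩ := Finset.exists_subset_card_eq (show 4 ≤ I.card by omega)
    have hdisj : (J : Set (Finset G)).PairwiseDisjoint id := by
      intro o ho o' ho' hne
      obtain ⟨F, hF, rfl⟩ := Finset.mem_image.1 (hJI ho)
      obtain ⟨F', hF', rfl⟩ := Finset.mem_image.1 (hJI ho')
      refine Finset.disjoint_left.2 fun v hv hv' => hne ?_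
      -- orbits that meet coincide
      obtain ⟨p, hp, hp'⟩ := Finset.mem_image.1 hv
      obtain ⟨r, hr, hr'⟩ := Finset.mem_image.1 hv'
      have hpT := (Finset.mem_filter.1 hp).2
      have hrT := (Finset.mem_filter.1 hr).2
      refine Finset.ext fun w => ⟨fun hw => ?_, fun hw => ?_⟩
      · obtain ⟨c, hc, rfl⟩ := Finset.mem_image.1 hw
        refine Finset.mem_image.2 ⟨c * p⁻¹ * r, Finset.mem_filter.2 ⟨Finset.mem_univ _,
          mul_mem (mul_mem (Finset.mem_filter.1 hc).2 (inv_mem hpT)) hrT⟩, ?_⟩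
        calc _ = c * p⁻¹ * (r * s F' * r⁻¹) * (c * p⁻¹)⁻¹ := by group
          _ = c * s F * c⁻¹ := by rw [hr', ← hp']; group
      · obtain ⟨c, hc, rfl⟩ := Finset.mem_image.1 hw
        refine Finset.mem_image.2 ⟨c * r⁻¹ * p, Finset.mem_filter.2 ⟨Finset.mem_univ _,
          mul_mem (mul_mem (Finset.mem_filter.1 hc).2 (inv_mem hrT)) hpT⟩, ?_⟩
        calc _ = c * r⁻¹ * (p * s F * p⁻¹) * (c * r⁻¹)⁻¹ := by group
          _ = c * s F' * c⁻¹ := by rw [hp', ← hr']; group
    have hsub : J.biUnion id ⊆ Tf.erase 1 := by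
      intro v hv
      obtain ⟨o, ho, hvo⟩ := Finset.mem_biUnion.1 hv
      obtain ⟨F, hF, rfl⟩ := Finset.mem_image.1 (hJI ho)
      obtain ⟨p, hp, rfl⟩ := Finset.mem_image.1 (show v ∈ O F from hvo)
      have hpT := (Finset.mem_filter.1 hp).2
      exact Finset.mem_erase.2 ⟨fun e => hs1 F hF (conj_eq_one_iff.1 e), Finset.mem_filter.2
        ⟨Finset.mem_univ _, mul_mem (mul_mem hpT (hle F hF (hs F hF))) (inv_mem hpT)⟩⟩
    have h1 := Finset.card_le_card hsub
    rw [Finset.card_biUnion hdisj, Finset.card_erase_of_mem (by simp [Tf, one_mem])] at h1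
    have h2 : ∑ o ∈ J, Tf.card ≤ ∑ o ∈ J, 4 * o.card := Finset.sum_le_sum fun o ho => by
      obtain ⟨F, hF, rfl⟩ := Finset.mem_image.1 (hJI ho)
      exact hO F hF
    rw [Finset.sum_const, hJ, smul_eq_mul, ← Finset.mul_sum] at h2
    have hpos : 0 < Tf.card := Finset.card_pos.2 ⟨1, by simp [Tf, one_mem]⟩
    simp only [id] at h1
    omega
  calc S.card ≤ 3 * I.card := Finset.card_le_mul_card_image S 3 hfib
    _ ≤ 9 := by omega

end Hyp

end CfsgLib.NineOne
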