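import Mathlib

/-!
# Automorphisms of order three without non-trivial fixed points

No element of such a group has a centraliser of index two, and a centre of index at most four is
the whole group.
-/

set_option autoImplicit false
set_option linter.unusedSectionVars false
set_option linter.style.haveILetI false

namespace CfsgLib.NineOne

open Subgroup

universe u

variable {U : Type u} [Group U]

/-- An automorphism whose cube is trivial and which fixes only the identity. -/
structure Fix3 (σ : U ≃* U) : Prop where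
  cube : ∀ u, σ (σ (σ u)) = u
  fpf : ∀ u, σ u = u → u = 1

namespace Fix3

variable {σ : U ≃* U} (h : Fix3 σ)
include h

theorem exists_twist [Finite U] (u : U) : ∃ w, w * (σ w)⁻¹ = u := by
  have hinj : Function.Injective fun w : U => w * (σ w)⁻¹ := by
    intro v w e
    replace e : v * (σ v)⁻¹ = w * (σ w)⁻¹ := e
    refine inv_mul_eq_one.1 (h.fpf (v⁻¹ * w) ?_)
    rw [map_mul, map_inv]
    calc (σ v)⁻¹ * σ w = v⁻¹ * (v * (σ v)⁻¹) * σ w := by group
      _ = v⁻¹ * w := by rw [e]; group
  exact Finite.injective_iff_surjective.1 hinj u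

theorem triple [Finite U] (u : U) : u * σ u * σ (σ u) = 1 := by
  obtain ⟨w, rfl⟩ := h.exists_twist u
  simp only [map_mul, map_inv, h.cube]
  group

theorem commute_apply [Finite U] (u : U) : Commute u (σ u) := by
  have h1 := h.triple u
  have h2 := h.triple u⁻¹
  simp only [map_inv] at h2
  have e1 : (σ (σ u))⁻¹ = u * σ u := inv_eq_of_mul_eq_one_left h1
  rw [e1] at h2
  have e2 := inv_eq_of_mul_eq_one_right h2
  rw [mul_inv_rev, inv_inv, inv_inv] at e2
  exact e2.symm

theorem card_mod_three [Finite U] : Nat.card U % 3 = 1 := by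
  classical
  haveI := Fintype.ofFinite U
  haveI : Fact (Nat.Prime 3) := ⟨Nat.prime_three⟩
  let f : Function.End U := fun u => σ u
  have hf : f ^ 3 ^ 1 = 1 := funext fun u => show σ (σ (σ u)) = u from h.cube u
  have h1 := Equiv.Perm.card_fixedPoints_modEq hf
  have hfix : Fintype.card (Function.fixedPoints f) = 1 :=
    Fintype.card_eq_one_iff.2 ⟨⟨1, show σ 1 = 1 from map_one σ⟩,
      fun u => Subtype.ext (h.fpf u.1 (show σ u.1 = u.1 from u.2))⟩
  rw [hfix] at h1
  rw [Nat.card_eq_fintype_card]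
  exact h1

/-- Restriction to an invariant subgroup. -/
theorem restrict (H : Subgroup U) (hH : ∀ u ∈ H, σ u ∈ H) : ∃ τ : H ≃* H, Fix3 τ := by
  refine ⟨{ toFun := fun u => ⟨σ u, hH u u.2⟩
            invFun := fun u => ⟨σ (σ u), hH _ (hH u u.2)⟩
            left_inv := fun u => Subtype.ext (h.cube u)
            right_inv := fun u => Subtype.ext (h.cube u)
            map_mul' := fun u v => Subtype.ext (map_mul σ (u : U) v) }, fun u => Subtype.ext (h.cube u),
    fun u e => Subtype.ext (h.fpf u (congrArg Subtype.val e))⟩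

theorem card_subgroup_mod_three [Finite U] (H : Subgroup U) (hH : ∀ u ∈ H, σ u ∈ H) :
    Nat.card H % 3 = 1 := by
  obtain ⟨τ, hτ⟩ := h.restrict H hH
  exact hτ.card_mod_three

/-- No invariant subgroup has index two. -/
theorem index_ne_two [Finite U] (H : Subgroup U) (hH : ∀ u ∈ H, σ u ∈ H) : H.index ≠ 2 := by
  intro h2
  have hiff : ∀ w, σ w ∈ H ↔ w ∈ H := fun w =>
    ⟨fun hw => h.cube w ▸ hH _ (hH _ hw), hH w⟩
  have htop : H = ⊤ := (Subgroup.eq_top_iff' H).2 fun u => by
    obtain ⟨w, rfl⟩ := h.exists_twist u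
    rw [mul_mem_iff_of_index_two h2, inv_mem_iff, hiff]
  rw [htop, Subgroup.index_top] at h2
  exact absurd h2 (by norm_num)

/-- No element has a centraliser of index two. -/
theorem centralizer_index_ne_two [Finite U] (w : U) :
    (centralizer ({w} : Set U)).index ≠ 2 := by
  intro h2
  set H := centralizer ({w} : Set U) with hH
  have hmem : ∀ g, g ∈ H ↔ g * w = w * g := fun g => mem_centralizer_singleton_iff
  -- an element centralising `σ w` but neither `w` nor `σ (σ w)`
  let H1 : Subgroup U := centralizer ({σ w} : Set U)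
  let H2 : Subgroup U := centralizer ({σ (σ w)} : Set U)
  have hmap : ∀ z g : U, g ∈ centralizer ({z} : Set U) ↔
      σ g ∈ centralizer ({σ z} : Set U) := by
    intro z g
    rw [mem_centralizer_singleton_iff, mem_centralizer_singleton_iff, ← map_mul, ← map_mul,
      σ.injective.eq_iff]
  have hmap' : ∀ g : U, g ∈ H2 ↔ σ g ∈ H := by
    intro g
    have := hmap (σ (σ w)) g
    rwa [h.cube] at this
  have hnot1 : ¬ H1 ≤ H := by
    intro hle
    refine h.index_ne_two H (fun u hu => hle ((hmap w u).1 hu)) h2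
  have hnot2 : ¬ H1 ≤ H2 := by
    intro hle
    refine h.index_ne_two H (fun u hu => ?_) h2
    have h1 : σ (σ u) ∈ H := (hmap' _).1 (hle ((hmap w u).1 hu))
    have h3 : σ (σ (σ (σ u))) ∈ H := (hmap' _).1 (hle ((hmap w _).1 h1))
    rwa [h.cube] at h3
  obtain ⟨g, hg1, hg0, hg2⟩ : ∃ g ∈ H1, g ∉ H ∧ g ∉ H2 := by
    obtain ⟨s, hs, hs0⟩ := SetLike.not_le_iff_exists.1 hnot1
    obtain ⟨r, hr, hr2⟩ := SetLike.not_le_iff_exists.1 hnot2
    by_cases hs2 : s ∈ H2
    · by_cases hr0 : r ∈ H
      · exact ⟨s * r, mul_mem hs hr, fun e => hs0 (by simpa using mul_mem e (inv_mem hr0)),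
          fun e => hr2 (by simpa [mul_assoc] using mul_mem (inv_mem hs2) e)⟩
      · exact ⟨r, hr, hr0, hr2⟩
    · exact ⟨s, hs, hs0, hs2⟩
  set c := g * w * g⁻¹ * w⁻¹ with hc
  have hcw : g * w * g⁻¹ = c * w := by rw [hc]; group
  -- all elements outside `H` move `w` to the same conjugate
  have hout : ∀ k, k ∉ H → k * w * k⁻¹ = c * w := by
    intro k hk
    have h1 : g⁻¹ * k ∈ H := by
      rw [mul_mem_iff_of_index_two h2, inv_mem_iff]
      exact iff_of_false hg0 hk
    have e := (hmem _).1 h1
    rw [← hcw]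
    calc k * w * k⁻¹ = g * (g⁻¹ * k * w) * k⁻¹ := by group
      _ = g * (w * (g⁻¹ * k)) * k⁻¹ := by rw [e]
      _ = g * w * g⁻¹ := by group
  have hc1 : c ≠ 1 := fun e => hg0 ((hmem g).2 (by
    rw [e, one_mul, mul_inv_eq_iff_eq_mul] at hcw
    exact hcw))
  -- `H` centralises `c`
  have hHc : ∀ k ∈ H, k * c * k⁻¹ = c := by
    intro k hk
    have e1 : k * w * k⁻¹ = w := by rw [(hmem k).1 hk]; group
    have hkg : k * g ∉ H := fun e => hg0 (by simpa [← mul_assoc] using mul_mem (inv_mem hk) e)
    have e2 := hout _ hkg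
    have e3 : k * (c * w) * k⁻¹ = c * w := by
      calc k * (c * w) * k⁻¹ = (k * g) * w * (k * g)⁻¹ := by rw [← hcw]; group
        _ = c * w := e2
    calc k * c * k⁻¹ = (k * (c * w) * k⁻¹) * (k * w * k⁻¹)⁻¹ := by group
      _ = c := by rw [e3, e1]; group
  -- and the others invert it
  have hOc : ∀ k, k ∉ H → k * c * k⁻¹ = c⁻¹ := by
    intro k hk
    have e1 := hout k hk
    have hkk : k * k ∈ H := mul_self_mem_of_index_two h2 k
    have e2 : k * (k * w * k⁻¹) * k⁻¹ = w := by
      calc k * (k * w * k⁻¹) * k⁻¹ = (k * k) * w * (k * k)⁻¹ := by group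
        _ = w := by rw [(hmem _).1 hkk]; group
    rw [e1] at e2
    calc k * c * k⁻¹ = (k * (c * w) * k⁻¹) * (k * w * k⁻¹)⁻¹ := by group
      _ = w * (c * w)⁻¹ := by rw [e2, e1]
      _ = c⁻¹ := by group
  set z := σ (σ w) with hz
  have hσc : σ (σ c) = σ (σ g) * z * (σ (σ g))⁻¹ * z⁻¹ := by
    rw [hc, hz]; simp only [map_mul, map_inv]
  have hzout : ∀ k, k ∉ H2 → k * z * k⁻¹ = σ (σ c) * z := by
    intro k hk
    have e := hout (σ k) (fun e => hk ((hmap' k).2 e))
    have e' := congrArg (fun v => σ (σ v)) e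
    simp only [map_mul, map_inv, h.cube] at e'
    exact e'
  have e1 := hzout g hg2
  have hzz : z = (σ w)⁻¹ * w⁻¹ := by
    rw [hz]
    refine eq_mul_inv_of_mul_eq ?_ |>.trans (one_mul _) |>.trans (mul_inv_rev _ _)
    have := h.triple w
    rw [mul_eq_one_iff_inv_eq] at this
    rw [← this]; group
  have hgc : g * z * g⁻¹ = z * c⁻¹ := by
    have ev : g * σ w * g⁻¹ = σ w := by rw [mem_centralizer_singleton_iff.1 hg1]; group
    calc g * z * g⁻¹ = (g * σ w * g⁻¹)⁻¹ * (g * w * g⁻¹)⁻¹ := by rw [hzz]; group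
      _ = _ := by rw [ev, hcw, hzz]; group
  rw [e1] at hgc
  have hcc : σ (σ c) = c ∨ σ (σ c) = c⁻¹ := by
    have e : σ (σ c) = (z * c * z⁻¹)⁻¹ := by
      calc σ (σ c) = σ (σ c) * z * z⁻¹ := by group
        _ = z * c⁻¹ * z⁻¹ := by rw [hgc]
        _ = _ := by group
    by_cases hzH : z ∈ H
    · right; rw [e, hHc z hzH]
    · left; rw [e, hOc z hzH, inv_inv]
  rcases hcc with e | e
  · refine hc1 (h.fpf c ?_)
    have := congrArg σ e
    rw [h.cube] at this
    exact this.symm
  · have e3 := congrArg σ e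
    rw [h.cube, map_inv] at e3
    have e4 : σ c = c⁻¹ := (inv_eq_iff_eq_inv.2 e3).symm
    rw [e4, map_inv, e4, inv_inv] at e
    exact hc1 (h.fpf c (e4.trans e.symm))

/-- A centre of index at most four is everything. -/
theorem center_eq_top [Finite U] (h4 : (center U).index ≤ 4) : center U = ⊤ := by
  by_contra hne
  obtain ⟨w, hw⟩ : ∃ w, w ∉ center U := by
    by_contra hall
    push Not at hall
    exact hne ((Subgroup.eq_top_iff' _).2 hall)
  have hlt : center U < centralizer ({w} : Set U) :=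
    lt_of_le_of_ne (center_le_centralizer _) fun e => hw (e ▸ mem_centralizer_singleton_iff.2 rfl)
  have hmul := relIndex_mul_index hlt.le
  have hr : 1 < (center U).relIndex (centralizer ({w} : Set U)) := by
    rcases Nat.lt_or_ge 1 ((center U).relIndex (centralizer ({w} : Set U))) with h1 | h1
    · exact h1
    · interval_cases hv : (center U).relIndex (centralizer ({w} : Set U))
      · rw [zero_mul] at hmul
        exact absurd hmul.symm index_ne_zero_of_finite
      · exact absurd (relIndex_eq_one.1 hv) hlt.not_ge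
  have hpos : 0 < (centralizer ({w} : Set U)).index := Nat.pos_of_ne_zero index_ne_zero_of_finite
  have hle : (centralizer ({w} : Set U)).index ≤ 2 := by nlinarith
  interval_cases hv : (centralizer ({w} : Set U)).index
  · refine hw (mem_center_iff.2 fun g => ?_)
    exact mem_centralizer_singleton_iff.1 (index_eq_one.1 hv ▸ mem_top g)
  · exact h.centralizer_index_ne_two w hv

/-- The fixed points of an element inverting `σ` have order at most the square root of `|U|`. -/
theorem card_fixed_sq_le [Finite U] (β : U →* U) (hβ : ∀ u, β (σ u) = σ (σ (β u))) :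
    Nat.card (β.eqLocus (MonoidHom.id U)) ^ 2 ≤ Nat.card U := by
  set C := β.eqLocus (MonoidHom.id U)
  have hC : ∀ c : C, β (c : U) = c := fun c => c.2
  rw [sq, ← Nat.card_prod]
  refine Nat.card_le_card_of_injective (fun p : C × C => (p.1 : U) * σ p.2) ?_
  rintro ⟨c, d⟩ ⟨c', d'⟩ e
  replace e : (c : U) * σ d = c' * σ d' := e
  have he : ((c'⁻¹ * c : C) : U) = σ ((d' * d⁻¹ : C) : U) := by
    simp only [Subgroup.coe_mul, Subgroup.coe_inv, map_mul, map_inv]
    calc (c' : U)⁻¹ * c = (c' : U)⁻¹ * (c * σ d) * (σ d)⁻¹ := by group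
      _ = _ := by rw [e]; group
  have h1 := congrArg β he
  rw [hC, he, hβ, hC] at h1
  have hk : ((d' * d⁻¹ : C) : U) = 1 := h.fpf _ (σ.injective h1).symm
  have hd : d' = d := mul_inv_eq_one.1 (Subtype.ext hk)
  subst hd
  exact Prod.ext (Subtype.ext (mul_right_cancel e)) rfl

end Fix3

end CfsgLib.NineOne
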