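import Cfsg.Agent.NineOne.Pair
import Cfsg.Agent.ThreeNine.Classes
import Cfsg.Agent.SelfThree.Classes
import Cfsg.Agent.SelfThree.Main
import Cfsg.Agent.NineTwo.Local

/-!
# The normalisers of maximal invariant subgroups of order prime to three

In a group of order `9·2^a·q^b` with a self-centralising elementary abelian Sylow 3-subgroup and
one class of elements of order three, the normaliser of a maximal `x`-invariant subgroup `F` of
order prime to three has order `3|F|` or `6|F|`.
-/

set_option autoImplicit false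
set_option linter.unusedSectionVars false
set_option linter.style.haveILetI false

namespace CfsgLib.NineOne

open Subgroup CfsgLib.SelfThree CfsgLib.NilpotentPart

universe u

variable {G : Type u} [Group G] [Finite G]

/-- Conjugation of subgroups. -/
def cj (g : G) (U : Subgroup G) : Subgroup G := U.map (MulAut.conj g).toMonoidHom

theorem mem_cj {g z : G} {U : Subgroup G} : z ∈ cj g U ↔ g⁻¹ * z * g ∈ U := by
  constructor
  · rintro ⟨w, hw, rfl⟩
    show g⁻¹ * (g * w * g⁻¹) * g ∈ U
    simpa [mul_assoc] using hw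
  · intro h
    exact ⟨_, h, show g * (g⁻¹ * z * g) * g⁻¹ = z by group⟩

theorem card_cj (g : G) (U : Subgroup G) : Nat.card (cj g U) = Nat.card U :=
  card_map_of_injective (MulAut.conj g).injective

theorem cj_one (U : Subgroup G) : cj 1 U = U := by ext z; simp [mem_cj]

theorem cj_mul (g h : G) (U : Subgroup G) : cj g (cj h U) = cj (g * h) U := by
  ext z; simp only [mem_cj]
  rw [show (g * h)⁻¹ * z * (g * h) = h⁻¹ * (g⁻¹ * z * g) * h by group]

theorem cj_mono (g : G) {U V : Subgroup G} (h : U ≤ V) : cj g U ≤ cj g V := map_mono h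

theorem cj_normalizer (g : G) (U : Subgroup G) :
    normalizer ((cj g U : Subgroup G) : Set G) = cj g (normalizer (U : Set G)) :=
  (map_equiv_normalizer_eq U (MulAut.conj g)).symm

theorem cj_eq_self {g : G} {U : Subgroup G} (h : g ∈ normalizer (U : Set G)) : cj g U = U :=
  map_conj_self h

theorem inv_cj {x : G} {U : Subgroup G} (h : Inv x U) (g : G) : Inv (g * x * g⁻¹) (cj g U) :=
  ⟨by rw [card_cj]; exact h.1, by
    rw [cj_normalizer, mem_cj]
    convert h.2 using 1
    group⟩

theorem isMax_cj {x : G} {F : Subgroup G} (h : IsMax x F) (g : G) :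
    IsMax (g * x * g⁻¹) (cj g F) := by
  refine ⟨inv_cj h.inv g, fun e => h.ne_bot ?_, fun U hU hle => ?_⟩
  · refine eq_bot_of_card_eq _ ?_
    rw [← card_cj g, e, card_bot]
  · have h1 : Inv x (cj g⁻¹ U) := by
      have := inv_cj hU g⁻¹
      rwa [show g⁻¹ * (g * x * g⁻¹) * g⁻¹⁻¹ = x by group] at this
    have h2 := h.max _ h1 (by
      have := cj_mono g⁻¹ hle
      rwa [cj_mul, inv_mul_cancel, cj_one] at this)
    rw [← h2, cj_mul, mul_inv_cancel, cj_one]

/-- Seven lines of the affine plane of order three. -/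
theorem nine_lines {A : Type*} [CommGroup A] {o : A} (a a2 b b2 c c2 d d2 : A)
    (L1 : o * a * a2 = 1) (L2 : o * b * b2 = 1) (L3 : o * c * c2 = 1) (L4 : o * d * d2 = 1)
    (M2 : b * c * d2 = 1) (M3 : b2 * d * c2 = 1) : o * o * o = 1 := by
  have h1 : (o * o * o) * (b * c * d2) * (b2 * d * c2) =
      (o * b * b2) * (o * c * c2) * (o * d * d2) := by
    simp only [mul_comm, mul_assoc, mul_left_comm]
  rw [M2, M3, L2, L3, L4, mul_one, mul_one] at h1
  simpa using h1

/-- The hypotheses of the one-class case. -/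
structure Hyp (G : Type u) [Group G] [Finite G] (q a b : ℕ) (R : Subgroup G) : Prop where
  simp : IsSimpleGroup G
  nonab : ¬ IsMulCommutative G
  prime : q.Prime
  q2 : q ≠ 2
  q3 : q ≠ 3
  card : Nat.card G = 9 * 2 ^ a * q ^ b
  setup : ThreeNine.Setup R
  one : ∀ s ∈ R, s ≠ 1 → ∀ r ∈ R, r ≠ 1 → IsConj s r

namespace Hyp

variable {q a b : ℕ} {R : Subgroup G} (D : Hyp G q a b R)
include D

theorem not_three_dvd : ¬ 3 ∣ 2 ^ a * q ^ b := fun h => by
  rcases Nat.prime_three.dvd_mul.1 h with h | h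
  · have := (Nat.prime_dvd_prime_iff_eq Nat.prime_three Nat.prime_two).1
      (Nat.prime_three.dvd_of_dvd_pow h)
    omega
  · exact D.q3 ((Nat.prime_dvd_prime_iff_eq Nat.prime_three D.prime).1
      (Nat.prime_three.dvd_of_dvd_pow h)).symm

theorem card_eq : Nat.card G = 9 * (2 ^ a * q ^ b) := by rw [D.card]; ring

theorem three_dvd_card : 3 ∣ Nat.card G := ⟨3 * (2 ^ a * q ^ b), by rw [D.card_eq]; ring⟩

theorem nine_not_dvd {m : ℕ} (h : m ∣ 2 ^ a * q ^ b) : ¬ 3 ∣ m := fun h3 =>
  D.not_three_dvd (h3.trans h)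

theorem exists_mem {y : G} (hy : orderOf y = 3) : ∃ g : G, g * y * g⁻¹ ∈ R := by
  haveI : Fact (Nat.Prime 3) := ⟨Nat.prime_three⟩
  obtain ⟨P, hP⟩ := (IsPGroup.of_card (n := 1) (G := zpowers y)
    (by rw [Nat.card_zpowers, hy, pow_one])).exists_le_sylow
  let Q : Sylow 3 G := Sylow.ofCard R (by
    rw [D.setup.card, D.card_eq, show (9 : ℕ) = 3 ^ 2 by norm_num,
      Nat.factorization_mul (by norm_num) (fun h0 => D.not_three_dvd (by rw [h0]; exact dvd_zero 3)),
      Finsupp.add_apply, Nat.factorization_eq_zero_of_not_dvd D.not_three_dvd, add_zero,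
      Nat.prime_three.factorization_pow, Finsupp.single_eq_same])
  obtain ⟨g, hg⟩ := MulAction.exists_smul_eq G P Q
  refine ⟨g, ?_⟩
  have hm : g * y * g⁻¹ ∈ (Q : Subgroup G) := by
    rw [← hg, Sylow.coe_subgroup_smul]
    exact ⟨y, hP (mem_zpowers y), rfl⟩
  exact hm

theorem isConj_of_three {x y : G} (hx : x ∈ R) (hx1 : x ≠ 1) (hy : orderOf y = 3) :
    IsConj x y := by
  obtain ⟨g, hg⟩ := D.exists_mem hy
  refine (D.one x hx hx1 _ hg fun e => ?_).trans (isConj_iff.2 ⟨g⁻¹, by group⟩)
  rw [conj_eq_one_iff.1 e, orderOf_one] at hy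
  omega

theorem card_centralizer {y : G} (hy : orderOf y = 3) :
    Nat.card (centralizer ({y} : Set G)) = 9 := by
  obtain ⟨g, hg⟩ := D.exists_mem hy
  rw [card_centralizer_of_isConj (isConj_iff.2 ⟨g, rfl⟩ : IsConj y (g * y * g⁻¹)),
    D.setup.card_centralizer hg fun e => by rw [conj_eq_one_iff.1 e, orderOf_one] at hy; omega]

/-- A subgroup of order prime to three normalised by `R` is trivial. -/
theorem eq_bot_of_normalized {U : Subgroup G} (hU : ¬ 3 ∣ Nat.card U)
    (hR : R ≤ normalizer (U : Set G)) : U = ⊥ := by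
  classical
  haveI := Fintype.ofFinite R
  refine (eq_bot_iff_forall U).2 fun u hu => ?_
  have hmem : ∀ s : R, (s : G) * u * (s : G)⁻¹ ∈ U := fun s =>
    (mem_normalizer_iff.1 (hR s.2) u).1 hu
  -- each element acts without fixed points
  have hfix : ∀ s : R, (s : G) ≠ 1 → ∀ v ∈ U, Commute v (s : G) → v = 1 := by
    intro s hs v hv hc
    have h1 := D.setup.mem_of_commute s.2 hs hc.eq
    have h2 := orderOf_dvd_natCard (⟨v, hv⟩ : U)
    rw [Subgroup.orderOf_mk] at h2
    by_contra hv1
    rw [D.setup.orderOf_eq h1 hv1] at h2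
    exact hU h2
  have hhalf : ∀ s : R, (s : G) ≠ 1 → ∃ σ : U ≃* U, Fix3 σ ∧
      ∀ v : U, ((σ v : U) : G) = (s : G) * v * (s : G)⁻¹ := by
    intro s hs
    refine ⟨{ toFun := fun v => ⟨_, (mem_normalizer_iff.1 (hR s.2) v).1 v.2⟩
              invFun := fun v => ⟨(s : G)⁻¹ * v * s, by
                simpa using (mem_normalizer_iff.1 (inv_mem (hR s.2)) v).1 v.2⟩
              left_inv := fun v => Subtype.ext (by group)
              right_inv := fun v => Subtype.ext (by group)
              map_mul' := fun v w => Subtype.ext (by simp only [Subgroup.coe_mul]; group) },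
      ⟨fun v => Subtype.ext ?_, fun v e => Subtype.ext (hfix s hs v v.2 ?_)⟩, fun v => rfl⟩
    · show (s : G) * ((s : G) * ((s : G) * v * (s : G)⁻¹) * (s : G)⁻¹) * (s : G)⁻¹ = v
      calc _ = (s : G) ^ 3 * v * ((s : G) ^ 3)⁻¹ := by rw [pow_succ, pow_succ, pow_one]; group
        _ = (v : G) := by rw [D.setup.cube _ s.2]; group
    · exact (mul_inv_eq_iff_eq_mul.1 (congrArg Subtype.val e :)).symm
  let c : R → G := fun s => (s : G) * u * (s : G)⁻¹
  have hcomm : ∀ s t : R, Commute (c s) (c t) := by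
    intro s t
    by_cases hst : (s : G)⁻¹ * t = 1
    · rw [show s = t from Subtype.ext (inv_mul_eq_one.1 hst)]
    · obtain ⟨σ, hσ, hσv⟩ := hhalf (s⁻¹ * t) hst
      have h1 := congrArg Subtype.val (hσ.commute_apply ⟨u, hu⟩).eq
      simp only [Subgroup.coe_mul, hσv, Subgroup.coe_inv] at h1
      show c s * c t = c t * c s
      have e : c t = (s : G) * ((s : G)⁻¹ * t * u * ((s : G)⁻¹ * t)⁻¹) * (s : G)⁻¹ := by
        show (t : G) * u * (t : G)⁻¹ = _
        group
      rw [e]
      calc (s : G) * u * (s : G)⁻¹ * ((s : G) * ((s : G)⁻¹ * t * u * ((s : G)⁻¹ * t)⁻¹) * (s : G)⁻¹)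
          = (s : G) * (u * ((s : G)⁻¹ * t * u * ((s : G)⁻¹ * t)⁻¹)) * (s : G)⁻¹ := by group
        _ = (s : G) * (((s : G)⁻¹ * t * u * ((s : G)⁻¹ * t)⁻¹) * u) * (s : G)⁻¹ := by rw [h1]
        _ = _ := by simp only [c]; group
  set A := closure (Set.range c)
  haveI : IsMulCommutative A := isMulCommutative_closure (by
    rintro _ ⟨s, rfl⟩ _ ⟨t, rfl⟩
    exact hcomm s t)
  letI : CommGroup A := { (inferInstance : Group A) with mul_comm := fun x y => setLike_mul_comm x.2 y.2 |> Subtype.ext }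
  let e : R → A := fun s => ⟨c s, subset_closure ⟨s, rfl⟩⟩
  -- the sum over each line vanishes
  have hline : ∀ w s : R, (s : G) ≠ 1 → e w * e (w * s) * e (w * s * s) = 1 := by
    intro w s hs
    obtain ⟨σ, hσ, hσv⟩ := hhalf s hs
    have h1 := congrArg Subtype.val (hσ.triple ⟨u, hu⟩)
    simp only [Subgroup.coe_mul, hσv, OneMemClass.coe_one] at h1
    refine Subtype.ext ?_
    simp only [Subgroup.coe_mul, OneMemClass.coe_one, e, c]
    calc _ = (w : G) * (u * ((s : G) * u * (s : G)⁻¹) *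
          ((s : G) * ((s : G) * u * (s : G)⁻¹) * (s : G)⁻¹)) * (w : G)⁻¹ := by group
      _ = 1 := by rw [h1]; group
  -- four lines through the origin and three parallel lines cover `R`
  letI : CommGroup R := { (inferInstance : Group R) with
    mul_comm := fun s t => Subtype.ext (D.setup.comm _ s.2 _ t.2) }
  have h9 : Fintype.card R = 9 := by rw [← Nat.card_eq_fintype_card]; exact D.setup.card
  have hbig : ∀ S : Finset R, S.card ≤ 3 → ∃ s : R, s ∉ S := fun S hS => by
    by_contra hall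
    push Not at hall
    have := Finset.card_le_card (fun s _ => hall s : (Finset.univ : Finset R) ⊆ S)
    rw [Finset.card_univ] at this
    omega
  obtain ⟨x, hx⟩ := hbig {1} (by simp)
  obtain ⟨y, hy⟩ := hbig {1, x, x * x} Finset.card_le_three
  simp only [Finset.mem_singleton] at hx
  simp only [Finset.mem_insert, Finset.mem_singleton, not_or] at hy
  obtain ⟨hy1, hyx, hyxx⟩ := hy
  have h3 : ∀ v : R, v * v * v = 1 := fun v => Subtype.ext (by
    simp only [Subgroup.coe_mul, OneMemClass.coe_one]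
    rw [← D.setup.cube _ v.2, pow_succ, pow_two])
  have hne : ∀ v : R, v ≠ 1 → (v : G) ≠ 1 := fun v hv h => hv (Subtype.ext h)
  have hxy : x * y ≠ 1 := fun h => hyxx (by
    calc y = (x * x * x) * y := by rw [h3, one_mul]
      _ = x * x * (x * y) := by simp only [mul_assoc]
      _ = x * x := by rw [h, mul_one])
  have hxyy : x * (y * y) ≠ 1 := fun h => hyx (by
    calc y = x * (y * y) * y := by rw [h, one_mul]
      _ = x * (y * y * y) := by simp only [mul_assoc]
      _ = x := by rw [h3, mul_one])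
  have L1 := hline 1 x (hne x hx)
  have L2 := hline 1 y (hne y hy1)
  have L3 := hline 1 (x * y) (hne _ hxy)
  have L4 := hline 1 (x * (y * y)) (hne _ hxyy)
  have M2 := hline y x (hne x hx)
  have M3 := hline (y * y) x (hne x hx)
  simp only [one_mul] at L1 L2 L3 L4
  have e4 : (x * (y * y)) * (x * (y * y)) = x * x * y := by
    calc (x * (y * y)) * (x * (y * y)) = x * x * y * (y * y * y) := by
          simp only [mul_comm, mul_assoc, mul_left_comm]
      _ = x * x * y := by rw [h3, mul_one]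
  rw [e4] at L4
  have e3 : (x * y) * (x * y) = x * x * (y * y) := by simp only [mul_comm, mul_assoc, mul_left_comm]
  rw [e3] at L3
  rw [show y * x = x * y from mul_comm _ _, show x * y * x = x * x * y by
    simp only [mul_comm, mul_assoc, mul_left_comm]] at M2
  rw [show y * y * x = x * (y * y) from mul_comm _ _, show x * (y * y) * x = x * x * (y * y) by
    simp only [mul_comm, mul_assoc, mul_left_comm]] at M3
  have h333 : e 1 * e 1 * e 1 = 1 := nine_lines (e x) (e (x * x)) (e y) (e (y * y)) (e (x * y))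
    (e (x * x * (y * y))) (e (x * (y * y))) (e (x * x * y)) L1 L2 L3 L4 M2 M3
  have hle : A ≤ U := (closure_le _).2 (by rintro _ ⟨s, rfl⟩; exact hmem s)
  have hd : orderOf (e 1) ∣ 3 := orderOf_dvd_of_pow_eq_one (by rw [pow_succ, pow_two, h333])
  rcases (Nat.dvd_prime Nat.prime_three).1 hd with h | h
  · have h' := congrArg Subtype.val (orderOf_eq_one_iff.1 h)
    simpa [e, c] using h'
  · exfalso
    have h2 := orderOf_dvd_natCard (e 1)
    rw [h] at h2
    exact hU (h2.trans (card_dvd_of_le hle))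

/-- In the normaliser of a non-trivial subgroup of order prime to three, elements of order three
generate their centralisers. -/
theorem sc_normalizer {U : Subgroup G} {x : G} (hU : Inv x U) (hU1 : U ≠ ⊥) (hx : orderOf x = 3) :
    SC (⟨x, hU.2⟩ : normalizer (U : Set G)) := by
  obtain ⟨g, hg⟩ := D.exists_mem hx
  have hg1 : g * x * g⁻¹ ≠ 1 := fun e => by rw [conj_eq_one_iff.1 e, orderOf_one] at hx; omega
  set N := normalizer ((cj g U : Subgroup G) : Set G) with hN
  have hgN : g * x * g⁻¹ ∈ R ⊓ N := ⟨hg, (inv_cj hU g).2⟩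
  have hlt : Nat.card (R ⊓ N : Subgroup G) ≠ 9 := fun e => hU1 (by
    have h1 : R ⊓ N = R := eq_of_le_of_card_ge inf_le_left (by rw [e, D.setup.card])
    have h2 := D.eq_bot_of_normalized (U := cj g U) (by rw [card_cj]; exact hU.1) (inf_eq_left.1 h1)
    exact eq_bot_of_card_eq _ (by rw [← card_cj g, h2, card_bot]))
  have hd : Nat.card (R ⊓ N : Subgroup G) ∣ 3 ^ 2 :=
    (card_dvd_of_le inf_le_left).trans (dvd_of_eq D.setup.card)
  have h3 : Nat.card (zpowers (g * x * g⁻¹)) = 3 := by
    rw [Nat.card_zpowers, D.setup.orderOf_eq hg hg1]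
  have heq : R ⊓ N = zpowers (g * x * g⁻¹) := (eq_of_le_of_card_ge (zpowers_le.2 hgN) (by
    obtain ⟨i, hi, e⟩ := (Nat.dvd_prime_pow Nat.prime_three).1 hd
    rw [h3, e]
    interval_cases i
    · norm_num
    · norm_num
    · exact absurd e (by simpa using hlt))).symm
  refine ⟨by rw [Subgroup.orderOf_mk, hx], le_antisymm (fun c hc => ?_)
    (zpowers_le.2 (mem_centralizer_singleton_iff.2 rfl))⟩
  have hc' : (c : G) * x = x * c := congrArg Subtype.val (mem_centralizer_singleton_iff.1 hc)
  have hcR : g * c * g⁻¹ ∈ R ⊓ N := ⟨D.setup.mem_of_commute hg hg1 (by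
      calc g * c * g⁻¹ * (g * x * g⁻¹) = g * ((c : G) * x) * g⁻¹ := by group
        _ = g * x * g⁻¹ * (g * c * g⁻¹) := by rw [hc']; group),
    by
      rw [hN, cj_normalizer]
      refine mem_cj.2 ?_
      convert c.2 using 1
      group⟩
  rw [heq] at hcR
  obtain ⟨i, hi⟩ := mem_zpowers_iff.1 hcR
  refine mem_zpowers_iff.2 ⟨i, Subtype.ext ?_⟩
  rw [conj_zpow] at hi
  simpa using mul_left_cancel (mul_right_cancel hi)

/-- The kernel of the normaliser of an invariant subgroup of order prime to three. -/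
theorem local_kernel {U : Subgroup G} {x : G} (hU : Inv x U) (hU1 : U ≠ ⊥) (hx : orderOf x = 3) :
    ∃ K, U ≤ K ∧ Inv x K ∧ normalizer (U : Set G) ≤ normalizer (K : Set G) ∧
      (∀ V ≤ normalizer (U : Set G), ¬ 3 ∣ Nat.card V →
        normalizer (U : Set G) ≤ normalizer (V : Set G) → V ≤ K) ∧
      (((Nat.card (normalizer (U : Set G)) = 3 * Nat.card K ∨
          Nat.card (normalizer (U : Set G)) = 6 * Nat.card K) ∧
          ∀ V ≤ normalizer (U : Set G), Inv x V → V ≤ K) ∨
        (IsPGroup 2 K ∧ (∃ A, Inv x A ∧ K < A) ∧ ∀ V ≤ normalizer (U : Set G), Inv x V →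
          IsPGroup 2 V ∧ ∀ t ∈ normalizer (U : Set G), Inverts t x →
            t ∈ normalizer (V : Set G) → V ≤ K)) := by
  set H := normalizer (U : Set G) with hH
  have h' := D.sc_normalizer hU hU1 hx
  set x' : H := ⟨x, hU.2⟩
  have hgood : Good (⊤ : Subgroup H) :=
    SelfThree.good _ _ (⟨x', mem_top _⟩ : (⊤ : Subgroup H)) rfl (h'.subgroup (mem_top x'))
  obtain ⟨K, -, hK, hKn', hmax, hcases⟩ := local_data h' (mem_top x') hgood
  have hcK : Nat.card (K.map H.subtype) = Nat.card K := card_map_of_injective H.subtype_injective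
  have hback : ∀ V ≤ H, V.subgroupOf H ≤ K → V ≤ K.map H.subtype := fun V hV hle => by
    rw [← map_subgroupOf_eq_of_le hV]
    exact map_mono hle
  have hnorm : ∀ V : Subgroup G, ∀ c : H, (c : G) ∈ normalizer (V : Set G) →
      c ∈ normalizer ((V.subgroupOf H : Subgroup H) : Set H) := fun V c hc => by
    rw [mem_normalizer_iff]
    intro w
    simp only [mem_subgroupOf, Subgroup.coe_mul, Subgroup.coe_inv]
    exact mem_normalizer_iff.1 hc w
  have hKn : ∀ c : H, c ∈ normalizer (K : Set H) := fun c => hKn' (mem_top c)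
  have hnormK : H ≤ normalizer ((K.map H.subtype : Subgroup G) : Set G) := fun c hc =>
    mem_normalizer_map H.subtype (g := (⟨c, hc⟩ : H)) (hKn _)
  have hmaxG : ∀ V ≤ H, ¬ 3 ∣ Nat.card V → H ≤ normalizer (V : Set G) → V ≤ K.map H.subtype :=
    fun V hV h3 hn => hback V hV (hmax _ le_top
      (by rwa [Nat.card_congr (subgroupOfEquivOfLe hV).toEquiv]) fun c _ => hnorm V c (hn c.2))
  have hUK : U ≤ K.map H.subtype := hmaxG U le_normalizer hU.1 le_rfl
  refine ⟨_, hUK, hK.of_subtype, hnormK, hmaxG, ?_⟩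
  rw [hcK]
  rcases hcases with ⟨hc, hI⟩ | ⟨hp, ⟨A, -, hA, hlt⟩, hII⟩ | hbot
  · left
    rw [Subgroup.card_top] at hc
    exact ⟨hc, fun V hV hVi => hback V hV (hI _ le_top (hVi.subgroupOf hV hU.2))⟩
  · refine Or.inr ⟨hp.map _, ⟨A.map H.subtype, hA.of_subtype, lt_of_le_of_ne (map_mono hlt.le)
      fun e => hlt.ne (map_injective H.subtype_injective e)⟩, fun V hV hVi => ?_⟩
    obtain ⟨h2, h3⟩ := hII _ le_top (hVi.subgroupOf hV hU.2)
    refine ⟨h2.of_equiv (subgroupOfEquivOfLe hV), fun t ht hi htV => hback V hV ?_⟩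
    exact h3 ⟨t, ht⟩ (mem_top _) ⟨by rw [Subgroup.orderOf_mk, hi.ord], Subtype.ext hi.conj⟩
      (hnorm V _ htV)
  · exfalso
    rw [hbot, Subgroup.map_bot, le_bot_iff] at hUK
    exact hU1 hUK

/-- The normaliser of a maximal invariant subgroup. -/
theorem max_data {F : Subgroup G} {x : G} (hF : IsMax x F) (hx : orderOf x = 3) :
    (Nat.card (normalizer (F : Set G)) = 3 * Nat.card F ∨
      Nat.card (normalizer (F : Set G)) = 6 * Nat.card F) ∧
    ∀ V ≤ normalizer (F : Set G), ¬ 3 ∣ Nat.card V →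
      normalizer (F : Set G) ≤ normalizer (V : Set G) → V ≤ F := by
  obtain ⟨K, hFK, hK, -, hmax, hcases⟩ := D.local_kernel hF.inv hF.ne_bot hx
  have hKF : K = F := hF.max K hK hFK
  subst hKF
  refine ⟨?_, hmax⟩
  rcases hcases with ⟨hc, -⟩ | ⟨-, ⟨A, hA, hlt⟩, -⟩
  · exact hc
  · exact absurd (hF.max A hA hlt.le) hlt.ne'

theorem orderOf_inverts {F : Subgroup G} {x : G} (hF : IsMax x F) (hx : orderOf x = 3)
    (h6 : Nat.card (normalizer (F : Set G)) = 6 * Nat.card F) :
    ∃ t ∈ normalizer (F : Set G), Inverts t x := by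
  haveI : Fact (Nat.Prime 3) := ⟨Nat.prime_three⟩
  have h' := D.sc_normalizer hF.inv hF.ne_bot hx
  rcases h'.card_normalizer with e3 | e6
  · exfalso
    obtain ⟨K0, hK0, hcard, hK03⟩ := h'.burnside e3
    have hc0 : Nat.card (K0.map (normalizer (F : Set G)).subtype) = Nat.card K0 :=
      card_map_of_injective (normalizer (F : Set G)).subtype_injective
    have hle : K0.map (normalizer (F : Set G)).subtype ≤ F := by
      refine (D.max_data hF hx).2 _ (map_subtype_le _) (fun h => hK03 (hc0 ▸ h)) fun c hc => ?_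
      exact mem_normalizer_map (normalizer (F : Set G)).subtype
        (g := (⟨c, hc⟩ : normalizer (F : Set G)))
        ((normalizer_eq_top_iff.2 hK0).ge (mem_top _))
    have := Nat.le_of_dvd Nat.card_pos (card_dvd_of_le hle)
    rw [hc0] at this
    have : 0 < Nat.card F := Nat.card_pos
    omega
  · obtain ⟨⟨t, ht⟩, hord, hconj⟩ := h'.inverts_of_six e6
    exact ⟨t, ht, by rw [← hord, Subgroup.orderOf_mk], congrArg Subtype.val hconj⟩

/-- The normaliser of a maximal invariant subgroup is the normaliser of each of its invariant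
non-trivial pieces that it normalises. -/
theorem normalizer_eq {F U : Subgroup G} {x : G} (hF : IsMax x F) (hx : orderOf x = 3)
    (hUF : U ≤ F) (hU1 : U ≠ ⊥) (hn : normalizer (F : Set G) ≤ normalizer (U : Set G))
    (hex : Nat.card (normalizer (F : Set G)) = 6 * Nat.card F ∨ (IsPGroup 2 F → U = F)) :
    normalizer (U : Set G) = normalizer (F : Set G) := by
  haveI : Fact (Nat.Prime 2) := ⟨Nat.prime_two⟩
  refine le_antisymm ?_ hn
  have hU : Inv x U := ⟨fun h3 => hF.inv.1 (h3.trans (card_dvd_of_le hUF)), hn hF.inv.2⟩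
  obtain ⟨K, hUK, hK, hHK, -, hcases⟩ := D.local_kernel hU hU1 hx
  have hFH : F ≤ normalizer (U : Set G) := le_normalizer.trans hn
  rcases hcases with ⟨-, hI⟩ | ⟨hp, ⟨A, hA, hlt⟩, hII⟩
  · exact hHK.trans (le_of_eq (by rw [hF.max K hK (hI F hFH hF.inv)]))
  · exfalso
    obtain ⟨hF2, hFt⟩ := hII F hFH hF.inv
    rcases hex with h6 | hUeq
    · obtain ⟨t, ht, hi⟩ := D.orderOf_inverts hF hx h6
      have hle := hFt t (hn ht) hi ht
      exact hlt.not_ge ((hF.max A hA (hle.trans hlt.le)).le.trans hle)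
    · have hle : F ≤ K := (hUeq hF2) ▸ hUK
      exact hlt.not_ge ((hF.max A hA (hle.trans hlt.le)).le.trans hle)

end Hyp

end CfsgLib.NineOne
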