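import Cfsg.Agent.NineOne.Arith
import Cfsg.Agent.NineOne.Bound
import Cfsg.Agent.NineOne.Chars
import Cfsg.Agent.FourAutOrbits.Main

/-!
# There is no group with one class of elements of order three
-/

set_option autoImplicit false
set_option linter.unusedSectionVars false
set_option linter.style.haveILetI false

namespace CfsgLib.NineOne

open Finset Cfsg CfsgLib.Block CfsgLib.Block.Chr CfsgLib.Char
open scoped Classical

universe u

/-- Orders with a count of pairs. -/
theorem bounded_of_pairs {a q b P : ℕ} (hP : PairsBounded a q b P)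
    (h : 2 ^ a * q ^ b ≤ 72 * P) : Bounded a q b := by
  unfold PairsBounded at hP
  unfold Bounded
  split_ifs with hev
  · rw [if_pos hev] at hP; exact h.trans (Nat.mul_le_mul_left _ hP)
  · rw [if_neg hev] at hP
    rcases hP with hP | ⟨hd, hP⟩ | ⟨h11, hP⟩
    · exact Or.inl (h.trans (Nat.mul_le_mul_left _ hP))
    · exact Or.inr (Or.inl ⟨hd, h.trans (Nat.mul_le_mul_left _ hP)⟩)
    · refine Or.inr (Or.inr ⟨h11, ?_⟩)
      calc 512 * (2 ^ a * q ^ b) ≤ 512 * (72 * P) := Nat.mul_le_mul_left _ h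
        _ = 72 * (512 * P) := by ring
        _ ≤ _ := Nat.mul_le_mul_left _ hP

theorem divisors_mod_seventeen : ∀ n < 73, n ∣ 72 → n % 17 = 1 → n = 1 ∨ n = 18 := by decide

theorem divisors_mod_nineteen : ∀ n < 73, n ∣ 72 → n % 19 = 1 → n = 1 := by decide

theorem factorial_eighteen : ¬ 17 ^ 2 ∣ Nat.factorial 18 := by decide +kernel

/-- No simple group has one of the three orders with `a = 3` and `q ≥ 17`. -/
theorem no_small {G : Type u} [Group G] [Finite G] [IsSimpleGroup G] (hG : ¬ IsMulCommutative G)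
    {q b : ℕ} (hq : q.Prime) (hq' : q = 17 ∨ q = 19) (hb : b ≠ 0)
    (h2 : q = 17 → 2 ≤ b) (hcard : Nat.card G = 9 * 2 ^ 3 * q ^ b) : False := by
  haveI := Fact.mk hq
  let S : Sylow q G := default
  have hS : Nat.card (S : Subgroup G) = q ^ b := by
    refine CfsgLib.SmallSimple.card_sylow_eq S (k := b) (m := 72) (by rw [hcard]; ring) ?_
    intro h
    have := Nat.le_of_dvd (by norm_num) h
    rcases hq' with rfl | rfl <;> omega
  have hn : Nat.card (Sylow q G) ∣ 72 := by
    have h1 := S.card_dvd_index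
    have h3 := (S : Subgroup G).index_mul_card
    rw [hS, hcard] at h3
    rwa [Nat.eq_of_mul_eq_mul_right (pow_pos hq.pos b) (show (S : Subgroup G).index * q ^ b = 72 * q ^ b by
      rw [h3]; ring)] at h1
  have hmod : Nat.card (Sylow q G) % q = 1 := by
    have h := card_sylow_modEq_one q G
    unfold Nat.ModEq at h
    rwa [Nat.mod_eq_of_lt hq.one_lt] at h
  have hlt : Nat.card (Sylow q G) < 73 := Nat.lt_succ_of_le (Nat.le_of_dvd (by norm_num) hn)
  have hqb : q ≤ q ^ b := Nat.le_self_pow hb q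
  have hne : Nat.card (Sylow q G) ≠ 1 := fun h1 => by
    haveI := (Nat.card_eq_one_iff_unique.1 h1).1
    rcases Subgroup.Normal.eq_bot_or_eq_top (S.normal_of_subsingleton) with h0 | h0
    · rw [h0, Subgroup.card_bot] at hS
      have := hq.one_lt
      omega
    · rw [h0, Subgroup.card_top, hcard] at hS
      have := hq.one_lt
      have : 0 < q ^ b := by omega
      omega
  rcases hq' with rfl | rfl
  · have h18 := (divisors_mod_seventeen _ hlt hn hmod).resolve_left hne
    have hidx : (Subgroup.normalizer ((S : Subgroup G) : Set G)).index = 18 := by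
      rw [← h18]; exact (S.card_eq_index_normalizer).symm
    have hfac := CfsgLib.SmallSimple.card_dvd_factorial
      (Subgroup.normalizer ((S : Subgroup G) : Set G)) (fun h => by
        rw [h, Subgroup.index_top] at hidx; omega)
    rw [hidx, hcard] at hfac
    exact factorial_eighteen (((pow_dvd_pow 17 (h2 rfl)).trans (dvd_mul_left _ _)).trans hfac)
  · exact hne (divisors_mod_nineteen _ hlt hn hmod)

namespace Hyp

variable {G : Type u} [Group G] [Finite G] {q a b : ℕ} {R : Subgroup G} (D : Hyp G q a b R)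
include D

theorem b_ne_zero : b ≠ 0 := by
  intro hb
  haveI := D.simp
  have hns : ¬ Group.IsSolvable G := fun h => D.nonab
    ⟨⟨(IsSimpleGroup.comm_iff_isSolvable).2 h⟩⟩
  have h3 := CfsgLib.FourAutOrbits.three_le_primeFactors hns
  have hsub : (Nat.card G).primeFactors ⊆ {2, 3} := by
    intro p hp
    have hp' := Nat.prime_of_mem_primeFactors hp
    have hd := Nat.dvd_of_mem_primeFactors hp
    rw [D.card, hb, pow_zero, mul_one] at hd
    simp only [Finset.mem_insert, Finset.mem_singleton]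
    rcases hp'.dvd_mul.1 hd with h | h
    · exact Or.inr ((Nat.prime_dvd_prime_iff_eq hp' Nat.prime_three).1
        (hp'.dvd_of_dvd_pow (show p ∣ 3 ^ 2 from h)))
    · exact Or.inl ((Nat.prime_dvd_prime_iff_eq hp' Nat.prime_two).1 (hp'.dvd_of_dvd_pow h))
  have := (Finset.card_le_card hsub).trans Finset.card_le_two
  omega

theorem three_le {x : G} (hxR : x ∈ R) (hx1 : x ≠ 1) : 3 ≤ a := by
  have h := D.setup.card_conj_in hxR hx1
  have h8 : Nat.card {t : G // t ∈ R ∧ IsConj x t} = 8 := by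
    haveI := Fintype.ofFinite R
    have e : {t : G // t ∈ R ∧ IsConj x t} ≃ {t : R // t ≠ 1} :=
      { toFun := fun t => ⟨⟨t, t.2.1⟩, fun e => hx1 (isConj_one_left.1 (by
          have h2 := t.2.2
          rwa [show (t : G) = 1 from congrArg Subtype.val e] at h2))⟩
        invFun := fun t => ⟨t.1, t.1.2, D.one x hxR hx1 _ t.1.2 fun e => t.2 (Subtype.ext e)⟩
        left_inv := fun t => rfl
        right_inv := fun t => rfl }
    rw [Nat.card_congr e, Nat.card_eq_fintype_card, Fintype.card_subtype_compl,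
      Fintype.card_subtype_eq, ← Nat.card_eq_fintype_card, D.setup.card]
  rw [h8] at h
  have hd : 8 ∣ 2 ^ a * q ^ b := by
    have h1 := Subgroup.card_subgroup_dvd_card (Subgroup.normalizer (R : Set G))
    rw [h, D.card_eq, Nat.mul_dvd_mul_iff_left (by norm_num)] at h1
    exact h1
  have h2 : 2 ^ 3 ∣ 2 ^ a := (Nat.Coprime.pow 3 b
    ((Nat.coprime_primes Nat.prime_two D.prime).2 (Ne.symm D.q2))).dvd_of_dvd_mul_right hd
  exact (Nat.pow_dvd_pow_iff_le_right (by norm_num)).1 h2

theorem mod_nine {x : G} (hxR : x ∈ R) (hx1 : x ≠ 1) : (2 ^ a * q ^ b) % 9 = 8 := by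
  haveI := Fintype.ofFinite G
  haveI := Fintype.ofFinite R
  have hx := D.setup.orderOf_eq hxR hx1
  let Y := {y : G // orderOf y = 3 ∧ y ∉ R}
  have hconj : ∀ (s : R) (y : G), orderOf ((s : G) * y * (s : G)⁻¹) = orderOf y := fun s y =>
    orderOf_injective (MulAut.conj (s : G)).toMonoidHom (MulAut.conj (s : G)).injective y
  letI : MulAction R Y :=
    { smul := fun s y => ⟨(s : G) * y.1 * (s : G)⁻¹, by rw [hconj]; exact y.2.1, fun h => y.2.2 (by
        have := mul_mem (mul_mem (inv_mem s.2) h) s.2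
        convert this using 1
        group)⟩
      one_smul := fun y => Subtype.ext (by
        show ((1 : R) : G) * y.1 * ((1 : R) : G)⁻¹ = y.1
        simp)
      mul_smul := fun s t y => Subtype.ext (by
        show ((s * t : R) : G) * y.1 * ((s * t : R) : G)⁻¹ =
          (s : G) * ((t : G) * y.1 * (t : G)⁻¹) * (s : G)⁻¹
        rw [Subgroup.coe_mul]; group) }
  have hstab : ∀ y : Y, MulAction.stabilizer R y = ⊥ := fun y =>
    (Subgroup.eq_bot_iff_forall _).2 fun s hs => by
      have h1 : (s : G) * y.1 * (s : G)⁻¹ = y.1 := congrArg Subtype.val (MulAction.mem_stabilizer_iff.1 hs)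
      by_contra hne
      exact y.2.2 (D.setup.mem_of_commute s.2 (fun e => hne (Subtype.ext e))
        (mul_inv_eq_iff_eq_mul.1 h1).symm)
  have hdvd : 9 ∣ Nat.card Y := by
    rw [Nat.card_congr (MulAction.selfEquivSigmaOrbitsQuotientStabilizer R Y), Nat.card_sigma]
    refine Finset.dvd_sum fun ω _ => ?_
    rw [hstab, ← D.setup.card, Nat.card_congr QuotientGroup.quotientBot.toEquiv]
  have hsplit : Nat.card {y : G // IsConj x y} = 8 + Nat.card Y := by
    let e : {y : G // IsConj x y} ≃ {t : R // t ≠ 1} ⊕ Y :=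
      { toFun := fun y => if h : y.1 ∈ R then Sum.inl ⟨⟨y.1, h⟩, fun e => hx1 (isConj_one_left.1 (by
            have h' : y.1 = 1 := congrArg Subtype.val e
            have := y.2
            rwa [h'] at this))⟩
          else Sum.inr ⟨y.1, by
            obtain ⟨c, hc⟩ := isConj_iff.1 y.2
            rw [← hc, ← hx]
            exact orderOf_injective (MulAut.conj c).toMonoidHom (MulAut.conj c).injective x, h⟩
        invFun := Sum.elim
          (fun t => ⟨t.1, D.one x hxR hx1 _ t.1.2 fun e => t.2 (Subtype.ext e)⟩)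
          (fun y => ⟨y.1, D.isConj_of_three hxR hx1 y.2.1⟩)
        left_inv := fun y => by
          simp only
          split_ifs with h <;> rfl
        right_inv := fun z => by
          rcases z with t | y
          · simp [t.1.2]
          · simp [y.2.2] }
    rw [Nat.card_congr e, Nat.card_sum]
    congr 1
    rw [Nat.card_eq_fintype_card, Fintype.card_subtype_compl, Fintype.card_subtype_eq,
      ← Nat.card_eq_fintype_card, D.setup.card]
  have hclass : Nat.card {y : G // IsConj x y} = 2 ^ a * q ^ b := by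
    have h := card_conj_class_mul_card_centralizer x
    rw [D.setup.card_centralizer hxR hx1, D.card_eq, mul_comm] at h
    exact Nat.eq_of_mul_eq_mul_left (by norm_num) h
  omega

/-- The congruence in the principal 2-block excludes the candidates. -/
theorem candidate_false [Fintype G] [Fintype (IrrCharacter G)] {x : G} (hxR : x ∈ R) (hx1 : x ≠ 1)
    (hav : avoid (good a q b) (items a q b) 0 1 0 = true)
    (hP : Nat.card (SelfThree.pairSet x) ≤ 420 ∨ (a, q, b) ≠ (6, 5, 3)) : False := by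
  haveI : Fact (Nat.Prime 2) := ⟨Nat.prime_two⟩
  obtain ⟨M, hM⟩ := exists_isPModular Nat.prime_two
  haveI : M.IsPrime := hM.2.1.isPrime
  set f := D.val hxR hx1 with hfdef
  have hf1 : f (oneIrr G) = 1 := D.val_one hxR hx1
  set B := univ.filter (· ∈ principalBlock M G)
  have h1 : oneIrr G ∈ B := Finset.mem_filter.2 ⟨Finset.mem_univ _, oneIrr_mem_principalBlock⟩
  have hdvd := D.block_dvd hxR hx1 (p := 2) (by norm_num) hM
  rw [D.fact_two, ← hfdef, ← Finset.add_sum_erase B _ h1, hf1, D.deg_one, one_mul] at hdvd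
  -- the members that count
  set A := (B.erase (oneIrr G)).filter fun χ => f χ ≠ 0 ∧ ¬ ((2 ^ a : ℕ) : ℤ) ∣ deg χ
  have hrest : ((2 ^ a : ℕ) : ℤ) ∣ ∑ χ ∈ (B.erase (oneIrr G)).filter
      (fun χ => ¬ (f χ ≠ 0 ∧ ¬ ((2 ^ a : ℕ) : ℤ) ∣ deg χ)), f χ * deg χ :=
    Finset.dvd_sum fun χ hχ => by
      have h := (Finset.mem_filter.1 hχ).2
      push Not at h
      rcases eq_or_ne (f χ) 0 with h0 | h0
      · rw [h0, zero_mul]; exact dvd_zero _
      · exact (h h0).mul_left _
  rw [← Finset.sum_filter_add_sum_filter_not (B.erase (oneIrr G))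
    (fun χ => f χ ≠ 0 ∧ ¬ ((2 ^ a : ℕ) : ℤ) ∣ deg χ), ← add_assoc] at hdvd
  have hS : ((2 ^ a : ℕ) : ℤ) ∣ 1 + ∑ χ ∈ A, f χ * deg χ := (dvd_add_left hrest).1 hdvd
  -- they are among the items
  let item : IrrCharacter G → ℕ × ℤ × ℤ := fun χ =>
    ((f χ * f χ).toNat, deg χ * f χ, 8000 * (f χ * f χ * f χ) / deg χ)
  have hA : ∀ χ ∈ A, χ ≠ oneIrr G ∧ f χ ≠ 0 := fun χ hχ =>
    ⟨Finset.ne_of_mem_erase (Finset.mem_filter.1 hχ).1, (Finset.mem_filter.1 hχ).2.1⟩
  have hitem : ∀ χ ∈ A, item χ ∈ items a q b := by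
    intro χ hχ
    obtain ⟨hne, h0⟩ := hA χ hχ
    obtain ⟨hχB, -, hnd⟩ := Finset.mem_filter.1 hχ
    obtain ⟨i, j, hi, hj, he⟩ := D.deg_form hxR hx1 hne h0
    have hd : deg χ = ((2 ^ i * q ^ j : ℕ) : ℤ) := by rw [deg, he]
    have hi' : i < a := lt_of_le_of_ne hi fun e => hnd (by
      rw [hd, e]; push_cast; exact dvd_mul_right _ _)
    have hq := D.other_dvd hxR hx1 hne h0 (p := 2) (r := q) (Or.inl ⟨rfl, rfl⟩) hM
      (Finset.mem_filter.1 (Finset.mem_of_mem_erase hχB)).2
    rw [hd, Int.natCast_dvd_natCast] at hq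
    obtain ⟨j, rfl⟩ : ∃ j', j = j' + 1 := by
      refine ⟨j - 1, (Nat.succ_pred_eq_of_ne_zero ?_).symm⟩
      rintro rfl
      rw [pow_zero, mul_one] at hq
      exact D.q2 ((Nat.prime_dvd_prime_iff_eq D.prime Nat.prime_two).1 (D.prime.dvd_of_dvd_pow hq))
    have h9 := D.val_congr hxR hx1 χ
    have h8 := D.val_nonneg hxR hx1 χ
    have hsq : deg χ * deg χ < ((9 * 2 ^ a * q ^ b : ℕ) : ℤ) := by
      have h := D.deg_sq
      rw [← Finset.add_sum_erase univ _ (Finset.mem_univ (oneIrr G)), D.deg_one] at h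
      have hle := Finset.single_le_sum (f := fun ψ => deg ψ * deg ψ) (fun ψ _ => mul_self_nonneg _)
        (Finset.mem_erase.2 ⟨hne, Finset.mem_univ χ⟩)
      push_cast at h ⊢
      linarith
    simp only [item]
    rw [hd] at h9 h8 hsq ⊢
    exact mem_items hi' (by omega) (D.val_cases hxR hx1 hne h0) h9 h8 hsq
  have hpos : ∀ χ ∈ A, 0 < (item χ).1 := fun χ hχ => by
    have := mul_self_pos.2 (hA χ hχ).2
    simp only [item]; omega
  -- the total weight
  have hE : ∑ χ ∈ univ.erase (oneIrr G), f χ * f χ = 8 := by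
    have h := D.val_sq hxR hx1
    rw [← Finset.add_sum_erase univ _ (Finset.mem_univ (oneIrr G)), ← hfdef, hf1] at h
    linarith
  have hAE : A ⊆ univ.erase (oneIrr G) := fun χ hχ =>
    Finset.mem_erase.2 ⟨(hA χ hχ).1, Finset.mem_univ χ⟩
  have hw : ((∑ χ ∈ A, (item χ).1 : ℕ) : ℤ) = ∑ χ ∈ A, f χ * f χ := by
    push_cast
    exact Finset.sum_congr rfl fun χ _ => Int.toNat_of_nonneg (mul_self_nonneg _)
  have hw8 : ∑ χ ∈ A, (item χ).1 ≤ 8 := by
    have := Finset.sum_le_sum_of_subset_of_nonneg hAE fun χ _ _ => mul_self_nonneg (f χ)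
    omega
  have hgood := avoid_sound item (items a q b) 0 1 0 A hitem hpos (by simpa using hw8) hav
  simp only [zero_add] at hgood
  rw [good, Bool.or_eq_true, Bool.and_eq_true, decide_eq_true_eq, decide_eq_true_eq,
    decide_eq_true_eq] at hgood
  have hs2 : ∑ χ ∈ A, (item χ).2.1 = ∑ χ ∈ A, f χ * deg χ :=
    Finset.sum_congr rfl fun χ _ => mul_comm _ _
  rcases hgood with h | ⟨h653, hgt⟩
  · rw [hs2] at h
    exact h (Int.emod_eq_zero_of_dvd hS)
  · have hP' := hP.resolve_right (not_not.2 h653)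
    simp only [Prod.mk.injEq] at h653
    obtain ⟨ha, hq', hb⟩ := h653
    subst ha hq' hb
    have hpairs := D.pairs_eq hxR hx1
    rw [← hfdef, show ((2 ^ 6 * 5 ^ 3 : ℕ) : ℚ) = 8000 by norm_num] at hpairs
    simp only [Int.cast_pow] at hpairs
    set U := univ.erase (oneIrr G)
    have hlow : ((∑ χ ∈ A, (item χ).2.2 : ℤ) : ℚ) - 1000 * (8 - ((∑ χ ∈ A, (item χ).1 : ℕ) : ℚ)) ≤
        8000 * ∑ χ ∈ U, ((f χ : ℤ) : ℚ) ^ 3 / (deg χ : ℚ) := by
      rw [← Finset.sum_sdiff hAE, mul_add, Finset.mul_sum, Finset.mul_sum]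
      have hA' : ((∑ χ ∈ A, (item χ).2.2 : ℤ) : ℚ) ≤
          ∑ χ ∈ A, 8000 * (((f χ : ℤ) : ℚ) ^ 3 / (deg χ : ℚ)) := by
        push_cast
        refine Finset.sum_le_sum fun χ _ => ?_
        have hd := deg_pos χ
        have h := Int.ediv_mul_le (8000 * (f χ * f χ * f χ)) hd.ne'
        have h' : (((item χ).2.2 : ℤ) : ℚ) * (deg χ : ℚ) ≤ 8000 * ((f χ : ℤ) : ℚ) ^ 3 := by
          have h'' : (((8000 * (f χ * f χ * f χ) / deg χ) * deg χ : ℤ) : ℚ) ≤
              ((8000 * (f χ * f χ * f χ) : ℤ) : ℚ) := by exact_mod_cast h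
          push_cast at h''
          simp only [item]
          linarith [h'']
        rw [← mul_div_assoc, le_div_iff₀ (by exact_mod_cast hd)]
        exact h'
      have hU : -1000 * ((∑ χ ∈ U \ A, f χ * f χ : ℤ) : ℚ) ≤
          ∑ χ ∈ U \ A, 8000 * (((f χ : ℤ) : ℚ) ^ 3 / (deg χ : ℚ)) := by
        push_cast
        rw [Finset.mul_sum]
        refine Finset.sum_le_sum fun χ hχ => ?_
        rcases eq_or_ne (f χ) 0 with h0 | h0
        · rw [h0]; norm_num
        · have := D.term_ge hxR hx1 (Finset.ne_of_mem_erase (Finset.mem_sdiff.1 hχ).1) h0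
          push_cast at this
          nlinarith [this]
      have hdiff : ((∑ χ ∈ U \ A, f χ * f χ : ℤ) : ℚ) =
          8 - ((∑ χ ∈ A, (item χ).1 : ℕ) : ℚ) := by
        have h := Finset.sum_sdiff hAE (f := fun χ => f χ * f χ)
        rw [hE, ← hw] at h
        have h' : ((∑ χ ∈ U \ A, f χ * f χ : ℤ) : ℚ) + ((((∑ χ ∈ A, (item χ).1 : ℕ)) : ℤ) : ℚ) = 8 := by
          exact_mod_cast h
        rw [Int.cast_natCast] at h'
        linarith
      rw [hdiff] at hU
      linarith
    rw [← Finset.add_sum_erase univ _ (Finset.mem_univ (oneIrr G)), hf1, D.deg_one] at hpairs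
    simp only [Int.cast_one, one_pow, div_one] at hpairs
    have hgt' : (3780 : ℚ) < 8000 + ((∑ χ ∈ A, (item χ).2.2 : ℤ) : ℚ) -
        1000 * (8 - ((∑ χ ∈ A, (item χ).1 : ℕ) : ℚ)) := by exact_mod_cast hgt
    have hP'' : ((Nat.card (SelfThree.pairSet x) : ℕ) : ℚ) ≤ 420 := by exact_mod_cast hP'
    linarith

/-- **The one-class case is impossible.** -/
theorem false_of_one_class : False := by
  haveI := D.simp
  letI := Fintype.ofFinite G
  letI := irrFintype (G := G)
  obtain ⟨x, hxR, hx1⟩ : ∃ x ∈ R, x ≠ 1 := by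
    refine (Subgroup.bot_or_exists_ne_one R).resolve_left fun h => ?_
    have h9 := D.setup.card
    rw [h, Subgroup.card_bot] at h9
    omega
  have hb := D.b_ne_zero
  have ha := D.three_le hxR hx1
  have h9 := D.mod_nine hxR hx1
  have hq5 : 5 ≤ q := by
    have := D.prime.two_le
    have := D.q2
    have := D.q3
    have : q ≠ 4 := fun e => absurd D.prime (by rw [e]; norm_num)
    omega
  have h19 : b = 1 → q ≤ 19 := fun h => NineTwo.q_le D.nonab D.prime D.q2 D.q3
    (by rw [D.card, h, pow_one])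
  have hP := D.pairs_bounded hxR hx1 hb h9
  have h72 : 2 ^ a * q ^ b ≤ 72 * Nat.card (SelfThree.pairSet x) := by
    have h := D.pairs_eq hxR hx1
    have h8 := D.eighth_le hxR hx1
    have hG : (0 : ℚ) ≤ ((2 ^ a * q ^ b : ℕ) : ℚ) := Nat.cast_nonneg _
    have h' := mul_le_mul_of_nonneg_left h8 hG
    rw [← h] at h'
    have h'' : (((2 ^ a * q ^ b : ℕ)) : ℚ) ≤ ((72 * Nat.card (SelfThree.pairSet x) : ℕ) : ℚ) := by
      push_cast at h' ⊢
      linarith
    exact_mod_cast h''
  haveI : Fact (Nat.Prime 2) := ⟨Nat.prime_two⟩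
  haveI : Fact q.Prime := ⟨D.prime⟩
  have h1 : 2 ^ a ≤ 81 * q ^ b := D.pow_le hxR hx1 (r := q) (Or.inl ⟨rfl, rfl⟩) D.prime D.fact_two rfl
  have h2 : q ^ b ≤ 81 * 2 ^ a :=
    D.pow_le hxR hx1 (r := 2) (Or.inr ⟨rfl, rfl⟩) Nat.prime_two D.fact_q (mul_comm _ _)
  have hmem := mem_candidates ha D.prime hq5 hb h9 h1 h2 h19 (bounded_of_pairs hP h72)
  rcases avoid_all _ hmem with ⟨ha3, hq7⟩ | hav
  · replace ha3 : a = 3 := ha3
    replace hq7 : q ≠ 7 := hq7
    subst ha3
    simp only [candidates, List.mem_cons, List.not_mem_nil, or_false, Prod.mk.injEq] at hmem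
    have hq' : q = 17 ∨ q = 19 := by omega
    have h17 : q = 17 → 2 ≤ b := by omega
    exact no_small D.nonab D.prime hq' hb h17 D.card
  · refine D.candidate_false hxR hx1 hav ?_
    by_cases h : (a, q, b) = (6, 5, 3)
    · left
      obtain ⟨rfl, rfl, rfl⟩ : a = 6 ∧ q = 5 ∧ b = 3 := by simpa using h
      simpa [PairsBounded] using hP
    · exact Or.inr h

end Hyp

end CfsgLib.NineOne
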