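import Cfsg.Agent.NineOne.Local
import Cfsg.Agent.S2751

/-!
# Maximal invariant subgroups: conjugacy classes and sizes

A maximal invariant subgroup of order divisible by `q` contains a Sylow `q`-subgroup; one that is
a 2-group with normaliser of order `6|F|` has order four or is of index two in a Sylow 2-subgroup
and then all these are conjugate.
-/

set_option autoImplicit false
set_option linter.unusedSectionVars false
set_option linter.style.haveILetI false

namespace CfsgLib.NineOne

open Subgroup CfsgLib.SelfThree CfsgLib.NilpotentPart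

universe u

variable {G : Type u} [Group G] [Finite G] {q a b : ℕ} {R : Subgroup G}

theorem not_two_dvd_three : ¬ 2 ∣ 3 := by norm_num

namespace Hyp

variable (D : Hyp G q a b R)
include D

/-- The elements of order three in the normaliser of a maximal invariant subgroup. -/
theorem three_cases {F : Subgroup G} {x : G} (hF : IsMax x F) (hx : orderOf x = 3) {y : G}
    (hy : orderOf y = 3) (hyN : y ∈ normalizer (F : Set G)) :
    ∃ w ∈ F, y = w * x * w⁻¹ ∨ y = w * x⁻¹ * w⁻¹ := by
  have h' := D.sc_normalizer hF.inv hF.ne_bot hx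
  obtain ⟨hk, -⟩ := D.max_data hF hx
  have hI : Inv (⟨x, hF.inv.2⟩ : normalizer (F : Set G))
      (F.subgroupOf (normalizer (F : Set G))) := hF.inv.subgroupOf le_normalizer hF.inv.2
  set H := normalizer (F : Set G) with hH
  set x' : H := ⟨x, hF.inv.2⟩
  set F' := F.subgroupOf H
  haveI hn : F'.Normal := normal_in_normalizer
  have hcF : Nat.card F' = Nat.card F := Nat.card_congr (subgroupOfEquivOfLe le_normalizer).toEquiv
  set L := F' ⊔ zpowers x' with hL
  have h3 : 3 * Nat.card F ∣ Nat.card L := Nat.Coprime.mul_dvd_of_dvd_of_dvd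
    (Nat.prime_three.coprime_iff_not_dvd.2 hF.inv.1)
    (h'.card_zpowers ▸ card_dvd_of_le (le_sup_right : zpowers x' ≤ L))
    (hcF ▸ card_dvd_of_le (le_sup_left : F' ≤ L))
  have hidx : L.index = 1 ∨ L.index = 2 := by
    obtain ⟨m, hm⟩ := h3
    have h4 := L.card_mul_index
    rw [hm] at h4
    have hpos : 0 < Nat.card F := Nat.card_pos
    rcases hk with e | e <;> rw [e] at h4
    · have : m * L.index = 1 := Nat.eq_of_mul_eq_mul_left (show 0 < 3 * Nat.card F by omega)
        (by linarith)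
      exact Or.inl (Nat.eq_one_of_mul_eq_one_left this)
    · have : m * L.index = 2 := Nat.eq_of_mul_eq_mul_left (show 0 < 3 * Nat.card F by omega)
        (by linarith)
      exact (Nat.dvd_prime Nat.prime_two).1 ⟨m, by linarith⟩
  have hyL : (⟨y, hyN⟩ : H) ∈ L := by
    rcases hidx with e | e
    · exact (index_eq_one.1 e).ge (mem_top _)
    · have h2 := mul_self_mem_of_index_two e (⟨y, hyN⟩ : H)
      have h4 : (⟨y, hyN⟩ : H) = (⟨y, hyN⟩ * ⟨y, hyN⟩) * (⟨y, hyN⟩ * ⟨y, hyN⟩) := Subtype.ext (by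
        show y = y * y * (y * y)
        calc y = y ^ 3 * y := by rw [← hy, pow_orderOf_eq_one, one_mul]
          _ = _ := by rw [pow_succ, pow_two]; group)
      rw [h4]
      exact mul_mem h2 h2
  obtain ⟨f, hf, z, hz, hfz⟩ := mem_sup_of_normal_left.1 hyL
  rcases h'.mem_cases hz with rfl | rfl | rfl
  · exfalso
    rw [mul_one] at hfz
    have h2 := orderOf_dvd_natCard (⟨f, hf⟩ : F')
    rw [Subgroup.orderOf_mk, hfz, Subgroup.orderOf_mk, hy, hcF] at h2
    exact hF.inv.1 h2
  · obtain ⟨w, hw, e⟩ := h'.exists_twist hI hf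
    refine ⟨w, hw, Or.inl ?_⟩
    rw [← show ((f : H) : G) * x = y from congrArg Subtype.val hfz, ← e]
    simp only [x', Subgroup.coe_mul, Subgroup.coe_inv]
    group
  · obtain ⟨w, hw, e⟩ := h'.inv.exists_twist ⟨hI.1, inv_mem hI.2⟩ hf
    refine ⟨w, hw, Or.inr ?_⟩
    rw [← show ((f : H) : G) * x⁻¹ = y from congrArg Subtype.val hfz, ← e]
    simp only [x', Subgroup.coe_mul, Subgroup.coe_inv]
    group

theorem fpf_max {F : Subgroup G} {x : G} (hF : IsMax x F) (hx : orderOf x = 3) {u : G}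
    (hu : u ∈ F) (hc : Commute u x) : u = 1 :=
  congrArg Subtype.val ((D.sc_normalizer hF.inv hF.ne_bot hx).fpf
    (hF.inv.subgroupOf le_normalizer hF.inv.2) (u := ⟨u, le_normalizer hu⟩) hu (Subtype.ext hc.eq))

/-- The action on a maximal invariant 2-subgroup, seen from a 2-subgroup containing it. -/
theorem half {F T : Subgroup G} {x : G} (hF : IsMax x F) (hx : orderOf x = 3) (hFT : F ≤ T)
    (hT : T ≤ normalizer (F : Set G)) (hT2 : IsPGroup 2 T)
    (hc : Nat.card T = 2 * Nat.card F) : Half T F x := by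
  refine ⟨hFT, hc, by rw [← hx, pow_orderOf_eq_one], hF.inv.2, fun u hu => D.fpf_max hF hx hu,
    fun t ht htF => ?_⟩
  have hy : orderOf (t * x * t⁻¹) = 3 := by
    rw [← hx]; exact orderOf_injective (MulAut.conj t).toMonoidHom (MulAut.conj t).injective x
  obtain ⟨w, hw, e | e⟩ := D.three_cases hF hx hy (mul_mem (mul_mem (hT ht) hF.inv.2) (inv_mem (hT ht)))
  · exfalso
    have h' := D.sc_normalizer hF.inv hF.ne_bot hx
    have hcomm : w⁻¹ * t * x = x * (w⁻¹ * t) := by
      calc w⁻¹ * t * x = w⁻¹ * (t * x * t⁻¹) * t := by group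
        _ = x * (w⁻¹ * t) := by rw [e]; group
    have hz := h'.mem_of_commute (c := ⟨w⁻¹ * t, mul_mem (inv_mem (le_normalizer hw)) (hT ht)⟩)
      (Subtype.ext hcomm)
    have h3 : orderOf (w⁻¹ * t) ∣ 3 := by
      have h1 := orderOf_dvd_natCard
        (⟨_, hz⟩ : zpowers (⟨x, hF.inv.2⟩ : normalizer (F : Set G)))
      rwa [h'.card_zpowers, Subgroup.orderOf_mk, Subgroup.orderOf_mk] at h1
    have h2 : orderOf (w⁻¹ * t) ∣ Nat.card T := by
      have h1 := orderOf_dvd_natCard (⟨w⁻¹ * t, mul_mem (inv_mem (hFT hw)) ht⟩ : T)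
      rwa [Subgroup.orderOf_mk] at h1
    obtain ⟨i, hi⟩ := IsPGroup.iff_card.1 hT2
    rw [hi] at h2
    have h1 := Nat.eq_one_of_dvd_coprimes (Nat.Coprime.pow_left i (by norm_num : Nat.Coprime 2 3))
      h2 h3
    rw [orderOf_eq_one_iff, inv_mul_eq_one] at h1
    exact htF (h1 ▸ hw)
  · exact ⟨w, hw, by
      calc w⁻¹ * t * x * (w⁻¹ * t)⁻¹ = w⁻¹ * (t * x * t⁻¹) * w := by group
        _ = x⁻¹ := by rw [e]; group⟩

/-- How many conjugates of `F` are normalised by `x`. -/
theorem card_conjugates {F : Subgroup G} {x : G} (hF : IsMax x F) (hx : orderOf x = 3) :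
    Nat.card {V : Subgroup G // (∃ g, V = cj g F) ∧ x ∈ normalizer (V : Set G)} *
      Nat.card (normalizer (F : Set G)) ≤ 18 * Nat.card F := by
  classical
  set N := normalizer (F : Set G)
  let Y := {y : G // orderOf y = 3 ∧ y ∈ N}
  have hY : Nat.card Y ≤ 2 * Nat.card F := by
    have hmem : ∀ p : Bool × F, orderOf ((p.2 : G) * (if p.1 then x else x⁻¹) * (p.2 : G)⁻¹) = 3 ∧
        (p.2 : G) * (if p.1 then x else x⁻¹) * (p.2 : G)⁻¹ ∈ N := by
      rintro ⟨c, w⟩
      refine ⟨?_, mul_mem (mul_mem (le_normalizer w.2) ?_) (inv_mem (le_normalizer w.2))⟩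
      · refine (orderOf_injective (MulAut.conj (w : G)).toMonoidHom
          (MulAut.conj (w : G)).injective _).trans ?_
        cases c <;> simp [hx]
      · cases c <;> simp [N, hF.inv.2]
    let ψ : Bool × F → Y := fun p => ⟨_, hmem p⟩
    refine le_trans (Nat.card_le_card_of_surjective ψ ?_) (by rw [Nat.card_prod]; simp)
    rintro ⟨y, hy, hyN⟩
    obtain ⟨w, hw, e | e⟩ := D.three_cases hF hx hy hyN
    · exact ⟨(true, ⟨w, hw⟩), Subtype.ext (by simp [ψ, e])⟩
    · exact ⟨(false, ⟨w, hw⟩), Subtype.ext (by simp [ψ, e])⟩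
  let W := {g : G // g⁻¹ * x * g ∈ N}
  have hord : ∀ g : G, orderOf (g⁻¹ * x * g) = 3 := fun g => by
    rw [← hx]
    simpa using orderOf_injective (MulAut.conj g⁻¹).toMonoidHom (MulAut.conj g⁻¹).injective x
  let φ : W → Y := fun g => ⟨_, hord g.1, g.2⟩
  have hW : Nat.card W ≤ Nat.card Y * 9 := by
    rw [← D.card_centralizer hx, ← Nat.card_prod]
    haveI hne : Nonempty W := ⟨⟨1, by simpa [N] using hF.inv.2⟩⟩
    refine Nat.card_le_card_of_injective (fun g => (φ g,
      (⟨(g : G) * ((Function.invFun φ (φ g) : W) : G)⁻¹, ?_⟩ : centralizer ({x} : Set G)))) ?_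
    · have e : ((Function.invFun φ (φ g) : W) : G)⁻¹ * x * (Function.invFun φ (φ g) : W) =
          (g : G)⁻¹ * x * g := congrArg Subtype.val (Function.invFun_eq (f := φ) ⟨g, rfl⟩)
      rw [mem_centralizer_singleton_iff]
      set r := ((Function.invFun φ (φ g) : W) : G)
      calc (g : G) * r⁻¹ * x = (g : G) * (r⁻¹ * x * r) * r⁻¹ := by group
        _ = x * ((g : G) * r⁻¹) := by rw [e]; group
    · intro g g' e
      have e1 := congrArg Prod.fst e
      have e2 := congrArg (fun p : Y × centralizer ({x} : Set G) => (p.2 : G)) e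
      simp only at e1 e2
      rw [e1] at e2
      exact Subtype.ext (mul_right_cancel e2)
  let V := {V : Subgroup G // (∃ g, V = cj g F) ∧ x ∈ normalizer (V : Set G)}
  choose r hr using fun v : V => v.2.1
  have hinW : ∀ (v : V) (n : N), (r v * (n : G))⁻¹ * x * (r v * n) ∈ N := by
    intro v n
    have h := v.2.2
    rw [hr v, cj_normalizer, mem_cj] at h
    have := mul_mem (mul_mem (inv_mem n.2) h) n.2
    convert this using 1
    group
  have hVN : Nat.card V * Nat.card N ≤ Nat.card W := by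
    rw [← Nat.card_prod]
    refine Nat.card_le_card_of_injective (fun p : V × N => (⟨_, hinW p.1 p.2⟩ : W)) ?_
    rintro ⟨v, n⟩ ⟨v', n'⟩ e
    replace e : r v * (n : G) = r v' * n' := congrArg Subtype.val e
    have hv : v = v' := Subtype.ext (by
      rw [hr v, hr v']
      calc cj (r v) F = cj (r v * n) F := by rw [← cj_mul, cj_eq_self n.2]
        _ = cj (r v') F := by rw [e, ← cj_mul, cj_eq_self n'.2])
    subst hv
    exact Prod.ext rfl (Subtype.ext (mul_left_cancel e))
  exact hVN.trans (hW.trans (by omega))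

/-- Maximal invariant subgroups sharing a Sylow subgroup of their normalisers. -/
theorem eq_cj_of_normalizer {F F' : Subgroup G} {x x' : G} (hF : IsMax x F) (hF' : IsMax x' F')
    (hx : orderOf x = 3) (hx' : orderOf x' = 3) {g : G}
    (h : cj g (normalizer (F : Set G)) = normalizer (F' : Set G)) : F' = cj g F := by
  have hmax := isMax_cj hF g
  have hord : orderOf (g * x * g⁻¹) = 3 := by
    rw [← hx]; exact orderOf_injective (MulAut.conj g).toMonoidHom (MulAut.conj g).injective x
  rw [← cj_normalizer] at h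
  exact le_antisymm ((D.max_data hmax hord).2 F' (h ▸ le_normalizer) hF'.inv.1 h.le)
    ((D.max_data hF' hx').2 _ (h ▸ le_normalizer) hmax.inv.1 h.ge)

/-- The `p`-part of a maximal invariant subgroup is a Sylow subgroup, except for `p = 2` and a
normaliser of order `6|F|`. -/
theorem card_part_full {F : Subgroup G} {x : G} (hF : IsMax x F) (hx : orderOf x = 3) {p : ℕ}
    [hp : Fact p.Prime] (hd : p ∣ Nat.card F) (hn : Group.IsNilpotent F)
    (hfull : p ≠ 2 ∨ Nat.card (normalizer (F : Set G)) = 3 * Nat.card F)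
    (heq : normalizer ((part F p : Subgroup G) : Set G) = normalizer (F : Set G)) :
    Nat.card (part F p) = p ^ (Nat.card G).factorization p := by
  have hcard := card_part (p := p) hn
  have hle : (Nat.card F).factorization p ≤ (Nat.card G).factorization p :=
    (Nat.factorization_le_iff_dvd Nat.card_pos.ne' Nat.card_pos.ne').2 (card_subgroup_dvd_card F) p
  rcases hle.eq_or_lt with e | e
  · rw [hcard, e]
  exfalso
  set v := (Nat.card F).factorization p with hv
  have h1 : p ∣ _ := Sylow.prime_dvd_card_quotient_normalizer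
    ((hp.out.pow_dvd_iff_le_factorization Nat.card_pos.ne').2 (show v + 1 ≤ _ from e)) hcard
  set N := normalizer ((part F p : Subgroup G) : Set G) with hN
  have h2 := ((part F p).subgroupOf N).card_mul_index
  rw [Nat.card_congr (subgroupOfEquivOfLe (le_normalizer : part F p ≤ N)).toEquiv, hcard,
    index_eq_card] at h2
  have h3 : p ^ (v + 1) ∣ Nat.card N := by
    rw [← h2, pow_succ]
    exact Nat.mul_dvd_mul_left _ h1
  rw [heq] at h3
  have hp3 : p ≠ 3 := fun e3 => hF.inv.1 (e3 ▸ hd)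
  have hcop : ∀ k : ℕ, ¬ p ∣ k → p ^ (v + 1) ∣ k * Nat.card F → False := by
    intro k hk hdv
    have h4 := ((hp.out.coprime_iff_not_dvd.2 hk).pow_left (v + 1)).dvd_of_dvd_mul_left hdv
    have h5 := (hp.out.pow_dvd_iff_le_factorization Nat.card_pos.ne').1 h4
    omega
  have h23 : ∀ r : ℕ, r.Prime → p ∣ r → p = r := fun r hr hdp =>
    (Nat.prime_dvd_prime_iff_eq hp.out hr).1 hdp
  rcases (D.max_data hF hx).1 with e' | e' <;> rw [e'] at h3
  · exact hcop 3 (fun hd' => hp3 (h23 3 Nat.prime_three hd')) h3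
  · refine hcop 6 (fun hd' => ?_) h3
    rcases hfull with h' | h'
    · rcases hp.out.dvd_mul.1 (show p ∣ 2 * 3 from hd') with e2 | e2
      · exact h' (h23 2 Nat.prime_two e2)
      · exact hp3 (h23 3 Nat.prime_three e2)
    · have : 0 < Nat.card F := Nat.card_pos
      omega

theorem isNilpotent_max {F : Subgroup G} {x : G} (hF : IsMax x F) (hx : orderOf x = 3) :
    Group.IsNilpotent F :=
  haveI := (D.sc_normalizer hF.inv hF.ne_bot hx).isNilpotent
    (hF.inv.subgroupOf le_normalizer hF.inv.2)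
  (Group.isNilpotent_congr (subgroupOfEquivOfLe (le_normalizer : F ≤ normalizer (F : Set G)))).1 this

theorem normalizer_part {F : Subgroup G} {x : G} (hF : IsMax x F) (hx : orderOf x = 3) {p : ℕ}
    [hp : Fact p.Prime] (hd : p ∣ Nat.card F) :
    normalizer ((part F p : Subgroup G) : Set G) = normalizer (F : Set G) := by
  have hn := D.isNilpotent_max hF hx
  refine D.normalizer_eq hF hx (part_le F p) (part_ne_bot hn hd) (normalizer_le_part F p)
    (Or.inr fun h2 => ?_)
  haveI : Fact (Nat.Prime 2) := ⟨Nat.prime_two⟩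
  obtain ⟨k, hk⟩ := IsPGroup.iff_card.1 h2
  obtain rfl : p = 2 := (Nat.prime_dvd_prime_iff_eq hp.out Nat.prime_two).1
    (hp.out.dvd_of_dvd_pow (hk ▸ hd))
  exact le_antisymm (part_le F 2) (le_part hn le_rfl h2)

/-- Maximal invariant subgroups with a full `p`-part are conjugate. -/
theorem conj_of_part {F F' : Subgroup G} {x : G} (hF : IsMax x F) (hF' : IsMax x F')
    (hx : orderOf x = 3) {p : ℕ} [hp : Fact p.Prime] (hd : p ∣ Nat.card F) (hd' : p ∣ Nat.card F')
    (hf : p ≠ 2 ∨ Nat.card (normalizer (F : Set G)) = 3 * Nat.card F)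
    (hf' : p ≠ 2 ∨ Nat.card (normalizer (F' : Set G)) = 3 * Nat.card F') :
    ∃ g, F' = cj g F := by
  let P : Sylow p G := Sylow.ofCard (part F p) (D.card_part_full hF hx hd (D.isNilpotent_max hF hx)
    hf (D.normalizer_part hF hx hd))
  let P' : Sylow p G := Sylow.ofCard (part F' p) (D.card_part_full hF' hx hd'
    (D.isNilpotent_max hF' hx) hf' (D.normalizer_part hF' hx hd'))
  obtain ⟨g, hg⟩ := MulAction.exists_smul_eq G P P'
  have hPart : cj g (part F p) = part F' p := by
    have := congrArg (fun Q : Sylow p G => (Q : Subgroup G)) hg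
    rw [Sylow.coe_subgroup_smul] at this
    exact this
  refine ⟨g, D.eq_cj_of_normalizer hF hF' hx hx ?_⟩
  rw [← D.normalizer_part hF hx hd, ← D.normalizer_part hF' hx hd', ← hPart, cj_normalizer]

/-- A Sylow 2-subgroup of the normaliser, above `F`. -/
theorem exists_two {F : Subgroup G} {x : G} (hF : IsMax x F) (h2 : IsPGroup 2 F)
    (h6 : Nat.card (normalizer (F : Set G)) = 6 * Nat.card F) :
    ∃ T, F ≤ T ∧ T ≤ normalizer (F : Set G) ∧ IsPGroup 2 T ∧ Nat.card T = 2 * Nat.card F := by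
  haveI : Fact (Nat.Prime 2) := ⟨Nat.prime_two⟩
  obtain ⟨j, hj⟩ := IsPGroup.iff_card.1 h2
  obtain ⟨P, hP⟩ := (h2.of_equiv (subgroupOfEquivOfLe
    (le_normalizer : F ≤ normalizer (F : Set G))).symm).exists_le_sylow
  refine ⟨(P : Subgroup _).map (normalizer (F : Set G)).subtype, ?_, map_subtype_le _,
    P.2.map _, ?_⟩
  · conv_lhs => rw [← map_subgroupOf_eq_of_le (le_normalizer : F ≤ normalizer (F : Set G))]
    exact map_mono hP
  · rw [card_map_of_injective (normalizer (F : Set G)).subtype_injective,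
      CfsgLib.SmallSimple.card_sylow_eq P (k := j + 1) (m := 3) (by rw [h6, hj, pow_succ]; ring)
        (by norm_num), hj, pow_succ, mul_comm]

/-- **Two maximal invariant 2-subgroups above a common 2-group have order four.** -/
theorem card_le_four {F₁ F₂ T : Subgroup G} {x₁ x₂ : G} (hF₁ : IsMax x₁ F₁) (hF₂ : IsMax x₂ F₂)
    (hx₁ : orderOf x₁ = 3) (hx₂ : orderOf x₂ = 3)
    (h6₁ : Nat.card (normalizer (F₁ : Set G)) = 6 * Nat.card F₁)
    (h6₂ : Nat.card (normalizer (F₂ : Set G)) = 6 * Nat.card F₂)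
    (hT : IsPGroup 2 T) (hFT₁ : F₁ ≤ T) (hFT₂ : F₂ ≤ T) (hTN₁ : T ≤ normalizer (F₁ : Set G))
    (hTN₂ : T ≤ normalizer (F₂ : Set G)) (hc₁ : Nat.card T = 2 * Nat.card F₁)
    (hc₂ : Nat.card T = 2 * Nat.card F₂) (hne : F₁ ≠ F₂) : Nat.card F₁ ≤ 4 := by
  haveI : Fact (Nat.Prime 2) := ⟨Nat.prime_two⟩
  set M₁ := normalizer (F₁ : Set G) with hM₁
  set M₂ := normalizer (F₂ : Set G) with hM₂
  have hMne : M₁ ≠ M₂ := fun e => hne ((D.eq_cj_of_normalizer hF₁ hF₂ hx₁ hx₂ (g := 1)
    (by rw [cj_one]; exact e)).trans (cj_one F₁)).symm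
  have hpos : 0 < Nat.card F₁ := Nat.card_pos
  have hcM : Nat.card M₁ = Nat.card M₂ := by rw [h6₁, h6₂]; omega
  have hTle : T ≤ M₁ ⊓ M₂ := le_inf hTN₁ hTN₂
  have hTeq : T = M₁ ⊓ M₂ := by
    refine eq_of_le_of_card_ge hTle ?_
    obtain ⟨c, hc⟩ := card_dvd_of_le hTle
    have hd := card_dvd_of_le (inf_le_left : M₁ ⊓ M₂ ≤ M₁)
    rw [hc, h6₁, hc₁, show 6 * Nat.card F₁ = (2 * Nat.card F₁) * 3 by ring,
      Nat.mul_dvd_mul_iff_left (by omega)] at hd
    rcases (Nat.dvd_prime Nat.prime_three).1 hd with rfl | rfl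
    · rw [hc, mul_one]
    · exfalso
      have h1 : M₁ ⊓ M₂ = M₁ := eq_of_le_of_card_ge inf_le_left (by rw [hc, h6₁, hc₁]; linarith)
      exact hMne (eq_of_le_of_card_ge (inf_eq_left.1 h1) hcM.ge)
  obtain ⟨k, hk⟩ := IsPGroup.iff_card.1 (hT.to_le hFT₁)
  obtain ⟨k₂, hk₂⟩ := IsPGroup.iff_card.1 (hT.to_le hFT₂)
  -- the bound of Goldschmidt
  have hfac : ∀ (F : Subgroup G) (i : ℕ), Nat.card F = 2 ^ i →
      Nat.card (normalizer (F : Set G)) = 6 * Nat.card F → Nat.card T = 2 * Nat.card F →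
      (Nat.card (normalizer (F : Set G))).factorization 2 = i + 1 := by
    intro F i hi h6 _
    rw [h6, hi, show 6 * 2 ^ i = 2 ^ (i + 1) * 3 by rw [pow_succ]; ring,
      Nat.factorization_mul (by positivity) (by norm_num), Finsupp.add_apply,
      Nat.prime_two.factorization_pow, Finsupp.single_eq_same,
      Nat.factorization_eq_zero_of_not_dvd not_two_dvd_three, add_zero]
  have hsyl : ∀ (F : Subgroup G) (i : ℕ), Nat.card F = 2 ^ i →
      Nat.card (normalizer (F : Set G)) = 6 * Nat.card F → Nat.card T = 2 * Nat.card F →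
      T ≤ normalizer (F : Set G) →
      ∃ P : Sylow 2 (normalizer (F : Set G)),
        (P : Subgroup _) = T.subgroupOf (normalizer (F : Set G)) := by
    intro F i hi h6 hc hle
    refine ⟨Sylow.ofCard (T.subgroupOf _) ?_, rfl⟩
    rw [Nat.card_congr (subgroupOfEquivOfLe hle).toEquiv, hfac F i hi h6 hc, hc, hi, pow_succ,
      mul_comm]
  have hquot : ∀ (F : Subgroup G) (x : G), IsMax x F → orderOf x = 3 →
      Nat.card (normalizer (F : Set G)) = 6 * Nat.card F → IsPGroup 2 F →
      Nonempty (normalizer (F : Set G) ⧸ Cfsg.pCore 2 (normalizer (F : Set G)) ≃*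
        Equiv.Perm (Fin 3)) := by
    intro F x hF hx h6 h2
    have hle : F.subgroupOf (normalizer (F : Set G)) ≤ Cfsg.pCore 2 (normalizer (F : Set G)) :=
      CfsgLib.Solvable.le_pCore (N := F.subgroupOf (normalizer (F : Set G))) 2
        ((normal_subgroupOf_iff_le_normalizer le_normalizer).2 le_rfl)
        (h2.of_equiv (subgroupOfEquivOfLe le_normalizer).symm)
    have heq : Cfsg.pCore 2 (normalizer (F : Set G)) = F.subgroupOf (normalizer (F : Set G)) := by
      refine le_antisymm ?_ hle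
      have hp := CfsgLib.Solvable.isPGroup_pCore (G := normalizer (F : Set G)) 2
      have h1 : (Cfsg.pCore 2 (normalizer (F : Set G))).map (normalizer (F : Set G)).subtype ≤ F := by
        refine (D.max_data hF hx).2 _ (map_subtype_le _) ?_ fun c hc => ?_
        · obtain ⟨i, hi⟩ := IsPGroup.iff_card.1 (hp.map (normalizer (F : Set G)).subtype)
          rw [hi]
          intro h3
          have := (Nat.prime_dvd_prime_iff_eq Nat.prime_three Nat.prime_two).1
            (Nat.prime_three.dvd_of_dvd_pow h3)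
          omega
        · haveI := CfsgLib.Solvable.pCore_normal (G := normalizer (F : Set G)) 2
          exact mem_normalizer_map (normalizer (F : Set G)).subtype
            (g := (⟨c, hc⟩ : normalizer (F : Set G)))
            ((normalizer_eq_top_iff.2 inferInstance).ge (mem_top _))
      exact fun z hz => mem_subgroupOf.2 (h1 ⟨z, hz, rfl⟩)
    have h' := D.sc_normalizer hF.inv hF.ne_bot hx
    haveI : (F.subgroupOf (normalizer (F : Set G))).Normal := normal_in_normalizer
    have hcF : Nat.card (F.subgroupOf (normalizer (F : Set G))) = Nat.card F :=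
      Nat.card_congr (subgroupOfEquivOfLe le_normalizer).toEquiv
    haveI := CfsgLib.Solvable.pCore_normal (G := normalizer (F : Set G)) 2
    refine Nonempty.map (fun e => (QuotientGroup.quotientMulEquivOfEq heq).trans e) ?_
    refine iso_sym_three (h'.quotient (K := F.subgroupOf (normalizer (F : Set G)))
      (by rw [hcF]; exact hF.inv.1)) ?_
    have h1 := (F.subgroupOf (normalizer (F : Set G))).card_mul_index
    rw [hcF, h6, index_eq_card] at h1
    exact Nat.eq_of_mul_eq_mul_left (show 0 < Nat.card F from Nat.card_pos) (by rw [h1, mul_comm])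
  have hbound : Nat.card ↥(M₁ ⊓ M₂) ≤ 2 ^ 7 := by
    refine Cfsg.Agent.S2751.result M₁ M₂ ?_ ?_ (hquot F₁ x₁ hF₁ hx₁ h6₁ (hT.to_le hFT₁))
      (hquot F₂ x₂ hF₂ hx₂ h6₂ (hT.to_le hFT₂)) ?_
    · rw [← hTeq]; exact hsyl F₁ k hk h6₁ hc₁ hTN₁
    · rw [← hTeq]; exact hsyl F₂ k₂ hk₂ h6₂ hc₂ hTN₂
    · intro N hN hn₁ hn₂
      by_contra hN1
      have hNT : N ≤ T := hTeq.ge.trans' hN
      have h3 : ¬ 3 ∣ Nat.card N := fun h => by
        obtain ⟨i, hi⟩ := IsPGroup.iff_card.1 (hT.to_le hNT)
        rw [hi] at h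
        have := (Nat.prime_dvd_prime_iff_eq Nat.prime_three Nat.prime_two).1
          (Nat.prime_three.dvd_of_dvd_pow h)
        omega
      have hle₁ : M₁ ≤ normalizer (N : Set G) :=
        (normal_subgroupOf_iff_le_normalizer (hN.trans inf_le_left)).1 hn₁
      have hle₂ : M₂ ≤ normalizer (N : Set G) :=
        (normal_subgroupOf_iff_le_normalizer (hN.trans inf_le_right)).1 hn₂
      have e₁ := D.normalizer_eq hF₁ hx₁ ((D.max_data hF₁ hx₁).2 N (hN.trans inf_le_left) h3 hle₁)
        hN1 hle₁ (Or.inl h6₁)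
      exact hMne (eq_of_le_of_card_ge (hle₂.trans e₁.le) hcM.le).symm
  rw [← hTeq, hc₁] at hbound
  refine pair_card (D.half hF₁ hx₁ hFT₁ hTN₁ hT hc₁) (D.half hF₂ hx₂ hFT₂ hTN₂ hT hc₂) hne hk
    (by omega) ?_
  -- the centres differ
  intro hctr
  have hn₁ : M₁ ≤ normalizer ((ctr F₁ : Subgroup G) : Set G) := normalizer_le_of_char (center F₁)
  have hn₂ : M₂ ≤ normalizer ((ctr F₁ : Subgroup G) : Set G) := by
    rw [hctr]; exact normalizer_le_of_char (center F₂)
  have hne1 : ctr F₁ ≠ ⊥ := by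
    haveI : Nontrivial F₁ := nontrivial_iff_ne_bot F₁ |>.2 hF₁.ne_bot
    haveI := (IsPGroup.of_card hk : IsPGroup 2 F₁).center_nontrivial
    exact fun e => (nontrivial_iff_ne_bot (center F₁)).1 inferInstance
      ((map_eq_bot_iff_of_injective _ F₁.subtype_injective).1 e)
  have e₁ := D.normalizer_eq hF₁ hx₁ (ctr_le F₁) hne1 hn₁ (Or.inl h6₁)
  exact hMne (eq_of_le_of_card_ge (hn₂.trans e₁.le) hcM.le).symm

/-- A maximal invariant 2-subgroup with normaliser of order `6|F|` and more than four elements has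
index two in a Sylow 2-subgroup. -/
theorem two_mul_card {F : Subgroup G} {x : G} (hF : IsMax x F) (hx : orderOf x = 3)
    (h2 : IsPGroup 2 F) (h6 : Nat.card (normalizer (F : Set G)) = 6 * Nat.card F)
    (h4 : 4 < Nat.card F) : 2 * Nat.card F = 2 ^ (Nat.card G).factorization 2 := by
  haveI : Fact (Nat.Prime 2) := ⟨Nat.prime_two⟩
  obtain ⟨T, hFT, hTN, hT, hc⟩ := D.exists_two hF h2 h6
  obtain ⟨S, hS⟩ := hT.exists_le_sylow
  rcases hS.eq_or_lt with e | e
  · rw [← hc, e, S.card_eq_multiplicity]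
  exfalso
  haveI := S.2.isNilpotent
  have hlt : T.subgroupOf S < ⊤ := lt_top_iff_ne_top.2 fun h => e.not_ge (subgroupOf_eq_top.1 h)
  obtain ⟨⟨g, hgS⟩, hg, hgT⟩ := SetLike.exists_of_lt (normalizerCondition_of_isNilpotent _ hlt)
  rw [mem_subgroupOf] at hgT
  have hgN : g ∈ normalizer (T : Set G) := by
    rw [mem_normalizer_iff]
    intro w
    constructor
    · intro hw
      exact (mem_normalizer_iff.1 hg ⟨w, hS hw⟩).1 hw
    · intro hw
      have hwS : w ∈ (S : Subgroup G) := by
        simpa [mul_assoc] using mul_mem (mul_mem (inv_mem hgS) (hS hw)) hgS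
      exact (mem_normalizer_iff.1 hg ⟨w, hwS⟩).2 hw
  have hgF : g ∉ normalizer (F : Set G) := fun h => hgT (by
    have h1 : Nat.card ((S : Subgroup G) ⊓ normalizer (F : Set G) : Subgroup G) ∣ Nat.card T := by
      obtain ⟨i, hi⟩ := IsPGroup.iff_card.1
        (S.2.to_le (inf_le_left : (S : Subgroup G) ⊓ normalizer (F : Set G) ≤ S))
      have hd := card_dvd_of_le (inf_le_right :
        (S : Subgroup G) ⊓ normalizer (F : Set G) ≤ normalizer (F : Set G))
      rw [hi, h6, show 6 * Nat.card F = Nat.card T * 3 by omega] at hd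
      rw [hi]
      exact (Nat.Coprime.pow_left i (by norm_num : Nat.Coprime 2 3)).dvd_of_dvd_mul_right hd
    rw [eq_of_le_of_card_ge (le_inf hS hTN) (Nat.le_of_dvd Nat.card_pos h1)]
    exact ⟨hgS, h⟩)
  have hne : F ≠ cj g F := fun h => hgF ((mem_normalizer_iff_map_conj_eq).2 h.symm)
  have hTg : cj g T = T := cj_eq_self hgN
  have hcg : Nat.card (normalizer ((cj g F : Subgroup G) : Set G)) = 6 * Nat.card (cj g F) := by
    rw [cj_normalizer, card_cj, card_cj, h6]
  have := D.card_le_four hF (isMax_cj hF g) hx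
    (by rw [← hx]; exact orderOf_injective (MulAut.conj g).toMonoidHom (MulAut.conj g).injective x)
    h6 hcg hT hFT (hTg ▸ cj_mono g hFT) hTN
    (by rw [cj_normalizer, ← hTg]; exact cj_mono g hTN) hc (by rw [card_cj]; exact hc) hne
  omega

/-- Two such subgroups are conjugate. -/
theorem conj_of_large {F F' : Subgroup G} {x : G} (hF : IsMax x F) (hF' : IsMax x F')
    (hx : orderOf x = 3) (h2 : IsPGroup 2 F) (h2' : IsPGroup 2 F')
    (h6 : Nat.card (normalizer (F : Set G)) = 6 * Nat.card F)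
    (h6' : Nat.card (normalizer (F' : Set G)) = 6 * Nat.card F')
    (h4 : 4 < Nat.card F) (h4' : 4 < Nat.card F') : ∃ g, F' = cj g F := by
  haveI : Fact (Nat.Prime 2) := ⟨Nat.prime_two⟩
  obtain ⟨T, hFT, hTN, hT, hc⟩ := D.exists_two hF h2 h6
  obtain ⟨T', hFT', hTN', hT', hc'⟩ := D.exists_two hF' h2' h6'
  obtain ⟨g, hg⟩ := MulAction.exists_smul_eq G
    (Sylow.ofCard T (hc.trans (D.two_mul_card hF hx h2 h6 h4)))
    (Sylow.ofCard T' (hc'.trans (D.two_mul_card hF' hx h2' h6' h4')))
  have hg' : cj g T = T' := by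
    have := congrArg (fun Q : Sylow 2 G => (Q : Subgroup G)) hg
    rw [Sylow.coe_subgroup_smul] at this
    exact this
  refine ⟨g, by_contra fun hne => ?_⟩
  have hcg : Nat.card (normalizer ((cj g F : Subgroup G) : Set G)) = 6 * Nat.card (cj g F) := by
    rw [cj_normalizer, card_cj, card_cj, h6]
  have := D.card_le_four hF' (isMax_cj hF g) hx
    (by rw [← hx]; exact orderOf_injective (MulAut.conj g).toMonoidHom (MulAut.conj g).injective x)
    h6' hcg hT' hFT' (hg' ▸ cj_mono g hFT) hTN'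
    (by rw [cj_normalizer, ← hg']; exact cj_mono g hTN) hc'
    (by rw [card_cj, ← hg', card_cj]; exact hc) hne
  omega

/-- A maximal invariant subgroup of order four contains its centraliser. -/
theorem centralizer_le {F : Subgroup G} {x : G} (hF : IsMax x F) (hx : orderOf x = 3) :
    Nat.card F = 4 → centralizer (F : Set G) ≤ F := by
  intro _
  haveI : Fact (Nat.Prime 3) := ⟨Nat.prime_three⟩
  have hle : centralizer (F : Set G) ≤ normalizer (F : Set G) := centralizer_le_normalizer _
  refine (D.max_data hF hx).2 _ hle (fun h3 => ?_) ?_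
  · obtain ⟨⟨y, hy⟩, hord⟩ := exists_prime_orderOf_dvd_card' (G := centralizer (F : Set G)) 3 h3
    rw [Subgroup.orderOf_mk] at hord
    obtain ⟨w, hw, e⟩ := D.three_cases hF hx hord (hle hy)
    obtain ⟨f, hf, hf1⟩ : ∃ f ∈ F, f ≠ 1 := by
      by_contra hall
      push Not at hall
      exact hF.ne_bot ((eq_bot_iff_forall F).2 hall)
    have hwf : w * f * w⁻¹ ∈ F := mul_mem (mul_mem hw hf) (inv_mem hw)
    have hcy : w * f * w⁻¹ * y = y * (w * f * w⁻¹) := mem_centralizer_iff.1 hy _ hwf
    refine hf1 (D.fpf_max hF hx hf ?_)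
    rcases e with rfl | rfl
    · show f * x = x * f
      calc f * x = w⁻¹ * (w * f * w⁻¹ * (w * x * w⁻¹)) * w := by group
        _ = x * f := by rw [hcy]; group
    · refine (Commute.inv_right_iff).1 ?_
      show f * x⁻¹ = x⁻¹ * f
      calc f * x⁻¹ = w⁻¹ * (w * f * w⁻¹ * (w * x⁻¹ * w⁻¹)) * w := by group
        _ = x⁻¹ * f := by rw [hcy]; group
  · intro n hn
    rw [mem_normalizer_iff_map_conj_eq, map_equiv_eq_comap_symm]
    ext z
    simp only [mem_comap, MulEquiv.coe_toMonoidHom, MulAut.conj_symm_apply,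
      mem_centralizer_iff, SetLike.mem_coe]
    constructor
    · intro hz v hv
      have h1 : n⁻¹ * v * n * (n⁻¹ * z * n) = n⁻¹ * z * n * (n⁻¹ * v * n) := hz (n⁻¹ * v * n) (by simpa using (mem_normalizer_iff.1 (inv_mem hn) v).1 hv)
      calc v * z = n * (n⁻¹ * v * n * (n⁻¹ * z * n)) * n⁻¹ := by group
        _ = z * v := by rw [h1]; group
    · intro hz v hv
      have h1 := hz (n * v * n⁻¹) ((mem_normalizer_iff.1 hn v).1 hv)
      calc v * (n⁻¹ * z * n) = n⁻¹ * (n * v * n⁻¹ * z) * n := by group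
        _ = n⁻¹ * z * n * v := by rw [h1]; group

end Hyp

end CfsgLib.NineOne
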