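import Cfsg.Agent.NineOne.Fpf
import Cfsg.Agent.Solvable.PGroupBasic

/-!
# Two subgroups of index two with automorphisms of order three

Two different subgroups of index two in the same group of order at most `2^7`, each having an
automorphism of order three without fixed points inverted by the group, have order at most four
unless their centres coincide.
-/

set_option autoImplicit false
set_option linter.unusedSectionVars false
set_option linter.style.haveILetI false

namespace CfsgLib.NineOne

open Subgroup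
open scoped commutatorElement

universe u

variable {G : Type u} [Group G] [Finite G]

/-- An element of order three acting without fixed points on a subgroup of index two of `T`. -/
structure Half (T F : Subgroup G) (x : G) : Prop where
  le : F ≤ T
  card : Nat.card T = 2 * Nat.card F
  cube : x ^ 3 = 1
  norm : x ∈ normalizer (F : Set G)
  fpf : ∀ u ∈ F, Commute u x → u = 1
  flip : ∀ a ∈ T, a ∉ F → ∃ f ∈ F, (f⁻¹ * a) * x * (f⁻¹ * a)⁻¹ = x⁻¹

namespace Half

variable {T F : Subgroup G} {x : G}

/-- The automorphism. -/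
def aut (h : Half T F x) : F ≃* F where
  toFun u := ⟨x * u * x⁻¹, (mem_normalizer_iff.1 h.norm u).1 u.2⟩
  invFun u := ⟨x⁻¹ * u * x, by
    simpa using (mem_normalizer_iff.1 (inv_mem h.norm) u).1 u.2⟩
  left_inv u := Subtype.ext (by group)
  right_inv u := Subtype.ext (by group)
  map_mul' u v := Subtype.ext (by simp only [Subgroup.coe_mul]; group)

theorem fix3 (h : Half T F x) : Fix3 h.aut := by
  refine ⟨fun u => Subtype.ext ?_, fun u e => Subtype.ext (h.fpf u u.2 ?_)⟩
  · show x * (x * (x * u * x⁻¹) * x⁻¹) * x⁻¹ = u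
    calc _ = x ^ 3 * u * (x ^ 3)⁻¹ := by rw [pow_succ, pow_succ, pow_one]; group
      _ = (u : G) := by rw [h.cube]; group
  · have e' : x * u * x⁻¹ = u := congrArg Subtype.val e
    exact (mul_inv_eq_iff_eq_mul.1 e').symm

variable (h : Half T F x)
include h

theorem relIndex : F.relIndex T = 2 := by
  have h1 := (F.subgroupOf T).card_mul_index
  rw [Nat.card_congr (subgroupOfEquivOfLe h.le).toEquiv, h.card] at h1
  have : 0 < Nat.card F := Nat.card_pos
  exact Nat.eq_of_mul_eq_mul_left this (h1.trans (mul_comm _ _))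

theorem normal : T ≤ normalizer (F : Set G) :=
  normal_subgroupOf_iff_le_normalizer h.le |>.1 (normal_of_index_eq_two h.relIndex)

/-- Outside `F`, an element of `T` acts on an abelian `F` with few fixed points. -/
theorem fixed_le (hab : center F = ⊤) {a : G} (haT : a ∈ T) (haF : a ∉ F) :
    Nat.card (F ⊓ centralizer ({a} : Set G) : Subgroup G) ^ 2 ≤ Nat.card F := by
  obtain ⟨f, hf, hinv⟩ := h.flip a haT haF
  set a' := f⁻¹ * a with ha'
  have haN : a ∈ normalizer (F : Set G) := h.normal haT
  let β : F →* F :=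
    { toFun := fun u => ⟨a * u * a⁻¹, (mem_normalizer_iff.1 haN u).1 u.2⟩
      map_one' := Subtype.ext (by simp)
      map_mul' := fun u v => Subtype.ext (by simp only [Subgroup.coe_mul]; group) }
  have hcomm : ∀ u v : F, (u : G) * v = v * u := fun u v =>
    congrArg Subtype.val (mem_center_iff.1 (hab.ge (mem_top v)) u)
  have hβ' : ∀ u : F, ((β u : F) : G) = a' * u * a'⁻¹ := by
    intro u
    show a * u * a⁻¹ = _
    have e := hcomm ⟨f⁻¹, inv_mem hf⟩ (β u)
    calc a * u * a⁻¹ = (a * u * a⁻¹) * f⁻¹ * f := by group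
      _ = f⁻¹ * (a * u * a⁻¹) * f := by rw [← show f⁻¹ * (a * u * a⁻¹) = (a * u * a⁻¹) * f⁻¹ from e]
      _ = a' * u * a'⁻¹ := by rw [ha']; group
  have hbound := h.fix3.card_fixed_sq_le β fun u => Subtype.ext (by
    rw [hβ']
    show a' * (x * u * x⁻¹) * a'⁻¹ = x * (x * (β u) * x⁻¹) * x⁻¹
    rw [hβ']
    have hxx : x⁻¹ = x * x := inv_eq_of_mul_eq_one_right (by rw [← mul_assoc, ← h.cube]; simp [pow_succ])
    calc a' * (x * u * x⁻¹) * a'⁻¹
        = (a' * x * a'⁻¹) * (a' * u * a'⁻¹) * (a' * x * a'⁻¹)⁻¹ := by group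
      _ = x⁻¹ * (a' * u * a'⁻¹) * x⁻¹⁻¹ := by rw [hinv]
      _ = (x * x) * (a' * u * a'⁻¹) * (x * x)⁻¹ := by rw [hxx]
      _ = _ := by group)
  refine le_trans (Nat.pow_le_pow_left ?_ 2) hbound
  refine Nat.card_le_card_of_injective
    (fun u => (⟨⟨u.1, u.2.1⟩, ?_⟩ : β.eqLocus (MonoidHom.id F))) ?_
  · refine Subtype.ext ?_
    show a * u.1 * a⁻¹ = u.1
    have e := mem_centralizer_singleton_iff.1 u.2.2
    rw [← e]; group
  · intro u v e
    exact Subtype.ext (congrArg (fun w : β.eqLocus (MonoidHom.id F) => ((w : F) : G)) e)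

/-- An element of `F` with a centraliser of index at most two in `F` is central. -/
theorem mem_center_of_le {K : Subgroup G} (hK : K ≤ F) (h2 : Nat.card F ≤ 2 * Nat.card K) {w : G}
    (hw : w ∈ F) (hc : ∀ k ∈ K, Commute k w) : (⟨w, hw⟩ : F) ∈ center F := by
  set C := centralizer ({(⟨w, hw⟩ : F)} : Set F)
  have hle : K.subgroupOf F ≤ C := fun k hk => mem_centralizer_singleton_iff.2
    (Subtype.ext (hc k (mem_subgroupOf.1 hk)).eq)
  have h1 := card_le_card_group C
  have h3 := Nat.le_of_dvd Nat.card_pos (card_dvd_of_le hle)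
  rw [Nat.card_congr (subgroupOfEquivOfLe hK).toEquiv] at h3
  have h4 := C.card_mul_index
  have hpos : 0 < C.index := Nat.pos_of_ne_zero index_ne_zero_of_finite
  have hCpos : 0 < Nat.card C := Nat.card_pos
  have : C.index ≤ 2 := by nlinarith
  interval_cases hv : C.index
  · refine mem_center_iff.2 fun g => ?_
    exact mem_centralizer_singleton_iff.1 ((index_eq_one.1 hv).ge (mem_top g))
  · exact absurd hv (h.fix3.centralizer_index_ne_two _)

/-- A subgroup of half the order lying in the centre makes `F` abelian. -/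
theorem center_eq_top_of_half {K : Subgroup G} (hK : K ≤ F) (h2 : Nat.card F ≤ 2 * Nat.card K)
    (hc : ∀ k ∈ K, ∀ l ∈ K, Commute k l) : center F = ⊤ := by
  have hle : K.subgroupOf F ≤ center F := fun k hk =>
    h.mem_center_of_le hK h2 k.2 fun l hl => hc l hl k (mem_subgroupOf.1 hk)
  have h3 := Nat.le_of_dvd Nat.card_pos (card_dvd_of_le hle)
  rw [Nat.card_congr (subgroupOfEquivOfLe hK).toEquiv] at h3
  refine h.fix3.center_eq_top ?_
  have h4 := (center F).card_mul_index
  have : 0 < Nat.card K := Nat.card_pos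
  nlinarith

end Half

/-- The centre of `F`, as a subgroup of the ambient group. -/
def ctr (F : Subgroup G) : Subgroup G := (center F).map F.subtype

theorem ctr_le (F : Subgroup G) : ctr F ≤ F := map_subtype_le _

theorem mem_ctr {F : Subgroup G} {z : G} : z ∈ ctr F ↔ ∃ hz : z ∈ F, (⟨z, hz⟩ : F) ∈ center F := by
  constructor
  · rintro ⟨⟨z, hz⟩, hc, rfl⟩
    exact ⟨hz, hc⟩
  · rintro ⟨hz, hc⟩
    exact ⟨⟨z, hz⟩, hc, rfl⟩

theorem commute_ctr {F : Subgroup G} {z f : G} (hz : z ∈ ctr F) (hf : f ∈ F) : Commute f z := by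
  obtain ⟨hz', hc⟩ := mem_ctr.1 hz
  exact congrArg Subtype.val (mem_center_iff.1 hc ⟨f, hf⟩)

/-- **The pair bound.** -/
theorem pair_card {T F₁ F₂ : Subgroup G} {x₁ x₂ : G} (h₁ : Half T F₁ x₁) (h₂ : Half T F₂ x₂)
    (hne : F₁ ≠ F₂) {k : ℕ} (hk : Nat.card F₁ = 2 ^ k) (h64 : Nat.card F₁ ≤ 64)
    (hctr : ctr F₁ ≠ ctr F₂) : Nat.card F₁ ≤ 4 := by
  have hcard : Nat.card F₁ = Nat.card F₂ := by have := h₁.card; have := h₂.card; omega
  set E := F₁ ⊓ F₂ with hE
  have hnot : ¬ F₂ ≤ F₁ := fun hle => hne (eq_of_le_of_card_ge hle hcard.le).symm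
  obtain ⟨a, ha2, ha1⟩ := SetLike.not_le_iff_exists.1 hnot
  have hEidx : Nat.card F₂ = 2 * Nat.card E := by
    have hrel : E.relIndex F₂ = 2 := by
      have h3 : E.relIndex F₂ ≤ 2 := by
        rw [hE, inf_relIndex_right]
        exact (relIndex_le_of_le_right h₂.le (by rw [h₁.relIndex]; norm_num)).trans h₁.relIndex.le
      have h4 : E.relIndex F₂ ≠ 1 := fun e => hnot ((relIndex_eq_one.1 e).trans inf_le_left)
      have h5 : E.relIndex F₂ ≠ 0 := index_ne_zero_of_finite
      omega
    have h6 := (E.subgroupOf F₂).card_mul_index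
    rw [Nat.card_congr (subgroupOfEquivOfLe (inf_le_right : E ≤ F₂)).toEquiv] at h6
    rw [← h6]
    show _ * E.relIndex F₂ = _
    rw [hrel, mul_comm]
  have hE1 : Nat.card F₁ ≤ 2 * Nat.card E := by omega
  by_cases hab1 : center F₁ = ⊤
  · -- `F₁` abelian: so is `F₂`, and `a` fixes `E` pointwise
    have hcE : ∀ k ∈ E, ∀ l ∈ E, Commute k l := fun k hk l hl =>
      congrArg Subtype.val (mem_center_iff.1 (hab1.ge (mem_top (⟨l, hl.1⟩ : F₁))) ⟨k, hk.1⟩)
    have hab2 : center F₂ = ⊤ := h₂.center_eq_top_of_half (K := E) inf_le_right (by omega) hcE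
    have hle : E ≤ F₁ ⊓ centralizer ({a} : Set G) := fun e he => ⟨he.1,
      mem_centralizer_singleton_iff.2 (congrArg Subtype.val
        (mem_center_iff.1 (hab2.ge (mem_top (⟨a, ha2⟩ : F₂))) ⟨e, he.2⟩))⟩
    have h1 := Nat.le_of_dvd Nat.card_pos (card_dvd_of_le hle)
    have h2 := h₁.fixed_le hab1 (h₂.le ha2) ha1
    nlinarith
  exfalso
  have hab2 : center F₂ ≠ ⊤ := fun hab2 => hab1 (h₁.center_eq_top_of_half inf_le_left hE1
    fun k hk l hl => congrArg Subtype.val (mem_center_iff.1
      (hab2.ge (mem_top (⟨l, hl.2⟩ : F₂))) ⟨k, hk.2⟩))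
  -- both centres have order four and lie in `E`
  have key : ∀ {F : Subgroup G} {x : G}, Half T F x → center F ≠ ⊤ → Nat.card F = 2 ^ k →
      ∀ N : Subgroup G, Nat.card F ≤ 2 * Nat.card (F ⊓ N : Subgroup G) →
        T ≤ normalizer (N : Set G) → N ≤ T →
        Nat.card (ctr F) = 4 ∧ ctr F ≤ N := by
    intro F x h hab hF N hN hTN hNT
    haveI : Fact (Nat.Prime 2) := ⟨Nat.prime_two⟩
    have hp : IsPGroup 2 F := IsPGroup.of_card hF
    haveI : Nontrivial F := by
      by_contra hn
      rw [not_nontrivial_iff_subsingleton] at hn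
      exact hab (Subsingleton.elim _ _)
    obtain ⟨j, hj⟩ := IsPGroup.iff_card.1 (hp.to_subgroup (center F))
    have hinv : ∀ u ∈ center F, h.aut u ∈ center F := fun u hu => mem_center_iff.2 fun v => by
      obtain ⟨v, rfl⟩ := h.aut.surjective v
      rw [← map_mul, ← map_mul, mem_center_iff.1 hu v]
    have h3 := h.fix3.card_subgroup_mod_three (center F) hinv
    have hnt := hp.center_nontrivial
    have hgt : 1 < Nat.card (center F) := Finite.one_lt_card
    have hmul := (center F).card_mul_index
    have hidx : 4 < (center F).index := by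
      by_contra hle
      exact hab (h.fix3.center_eq_top (by omega))
    rw [hj] at h3 hgt hmul
    have hk6 : 2 ^ k ≤ 64 := hF ▸ (hF.trans hk.symm ▸ h64)
    have hj2 : j = 2 := by
      have hjlt : 2 ^ j * 4 < 64 + 1 := by
        have : 2 ^ j * 4 < 2 ^ j * (center F).index :=
          Nat.mul_lt_mul_of_pos_left hidx (by positivity)
        omega
      have hj4 : j < 5 := by
        by_contra hge
        have := Nat.pow_le_pow_right (show 1 ≤ 2 by norm_num) (not_lt.1 hge)
        omega
      interval_cases j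
      · norm_num at hgt
      · norm_num at h3
      · rfl
      · norm_num at h3
      · exfalso
        have : (2 : ℕ) ^ 4 * 5 ≤ 64 := le_trans (Nat.mul_le_mul_left _ hidx) (by omega)
        norm_num at this
    refine ⟨by rw [ctr, card_map_of_injective F.subtype_injective, hj, hj2]; norm_num, ?_⟩
    -- the centre lies in the derived subgroup
    have hcomm_ne : commutator F ≠ ⊥ := fun e => hab ((Subgroup.eq_top_iff' _).2 fun u =>
      mem_center_iff.2 fun v => by
        have hm : ⁅v, u⁆ ∈ commutator F := commutator_mem_commutator (mem_top v) (mem_top u)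
        rw [e, mem_bot, commutatorElement_eq_one_iff_mul_comm] at hm
        exact hm)
    have hinv' : ∀ u ∈ commutator F ⊓ center F, h.aut u ∈ commutator F ⊓ center F := fun u hu =>
      ⟨by
        have := mem_map_of_mem h.aut.toMonoidHom hu.1
        rw [_root_.commutator_def, map_commutator] at this
        rw [_root_.commutator_def]
        exact (commutator_mono le_top le_top) this, hinv u hu.2⟩
    have h5 := h.fix3.card_subgroup_mod_three _ hinv'
    have h6 : 1 < Nat.card (commutator F ⊓ center F : Subgroup F) := by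
      rw [Subgroup.one_lt_card_iff_ne_bot]
      haveI : Group.IsNilpotent F := hp.isNilpotent
      exact fun e => CfsgLib.PGroupBasic.inf_center_ne_bot (commutator F) hcomm_ne e
    have h7 := card_dvd_of_le (inf_le_right : commutator F ⊓ center F ≤ center F)
    rw [hj, hj2] at h7
    have h8 : center F ≤ commutator F := by
      refine inf_eq_right.1 (eq_of_le_of_card_ge inf_le_right ?_)
      rw [hj, hj2]
      have := Nat.le_of_dvd (by norm_num) h7
      obtain ⟨i, hi, hi'⟩ := (Nat.dvd_prime_pow Nat.prime_two).1 h7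
      interval_cases i <;> omega
    -- the derived subgroup lies in `N`
    haveI : (N.subgroupOf F).Normal :=
      normal_subgroupOf_of_le_normalizer (h.le.trans hTN)
    have hidx2 : (N.subgroupOf F).index ≤ 2 := by
      have h9 := (N.subgroupOf F).card_mul_index
      have h10 : Nat.card (N.subgroupOf F) = Nat.card (F ⊓ N : Subgroup G) := by
        rw [← inf_subgroupOf_left N F]
        exact Nat.card_congr (subgroupOfEquivOfLe inf_le_left).toEquiv
      rw [h10] at h9
      have : 0 < Nat.card (F ⊓ N : Subgroup G) := Nat.card_pos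
      nlinarith
    have h11 : commutator F ≤ N.subgroupOf F := by
      rw [_root_.commutator_def, commutator_le]
      intro u _ v _
      have hpos : 0 < (N.subgroupOf F).index := Nat.pos_of_ne_zero index_ne_zero_of_finite
      interval_cases hv : (N.subgroupOf F).index
      · rw [index_eq_one.1 hv]; exact mem_top _
      · have hm := @mul_mem_iff_of_index_two _ _ _ hv
        rw [commutatorElement_def, hm, hm, hm, inv_mem_iff, inv_mem_iff]
        tauto
    rintro z hz
    obtain ⟨hzF, hzc⟩ := mem_ctr.1 hz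
    exact mem_subgroupOf.1 (h11 (h8 hzc))
  obtain ⟨c1, hZ1⟩ := key h₁ hab1 hk F₂ hE1 h₂.normal h₂.le
  obtain ⟨c2, hZ2⟩ := key h₂ hab2 (hcard ▸ hk) F₁ (by rw [inf_comm]; exact hEidx.le) h₁.normal h₁.le
  -- an element of `ctr F₂` has a centraliser of index two in `F₁`
  refine hctr (eq_of_le_of_card_ge (fun w hw => ?_) (by omega)).symm
  refine mem_ctr.2 ⟨hZ2 hw, h₁.mem_center_of_le (K := E) inf_le_left hE1 (hZ2 hw) ?_⟩
  exact fun e he => commute_ctr hw he.2

end CfsgLib.NineOne
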